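/-
Linear algebra for recognising Fi22 from an involution centraliser: dual vectors, isotropic adjustments, the
transvection pairs acting on a totally isotropic plane, and involutions of rank three are no squares.
-/
import Cfsg.Agent.Lib.ThreeTrans.M22.Unique.Chart
import Cfsg.Agent.Lib.ThreeTrans.M22.Cover

set_option autoImplicit false
set_option linter.unusedSectionVars false

namespace CfsgFi22Rec

open Matrix Cfsg CfsgLib CfsgLib.UnitaryTransvection CfsgLib.UnitarySimple CfsgThreeTrans.M22

variable {F : Type} [Field F] [Fintype F] [DecidableEq F] (hF : Fintype.card F = 2 ^ 2)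

local notation "h" => Cfsg.hermForm 6 F 2
local notation "σ" => frob hF
local notation "V" => (Fin 6 → F)
local notation "π" => QuotientGroup.mk' (Subgroup.center (Cfsg.SU 6 F 2))

include hF

theorem frob_eq (a : F) : σ a = a * a := by rw [frob_apply, pow_two]

theorem swap_zero {x y : V} (e : h x y = 0) : h y x = 0 := by rw [← h_swap hF x y, e, map_zero]

/-- A vector with prescribed products against an independent family. -/
theorem exists_vals {k : ℕ} {v : Fin k → V} (hv : LinearIndependent F v) (c : Fin k → F) :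
    ∃ x, ∀ i, h x (v i) = c i := by
  let f : V →ₗ[F] (Fin k → F) :=
    { toFun := fun x i => h x (v i)
      map_add' := fun x y => funext fun i => h_add_left x y (v i)
      map_smul' := fun a x => funext fun i => h_smul_left a x (v i) }
  have hsurj : LinearMap.range f = ⊤ := by
    by_contra hne
    obtain ⟨g, hg0, hg⟩ := Submodule.exists_le_ker_of_lt_top _ (lt_top_iff_ne_top.mpr hne)
    set a : Fin k → F := fun i => g (Pi.single i 1)
    have key : ∀ x, ∑ i, h x (v i) * a i = 0 := fun x => by
      have e : g (f x) = 0 := hg ⟨x, rfl⟩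
      rw [show g (f x) = ∑ i, h x (v i) * a i from ?_] at e
      · exact e
      conv_lhs => rw [pi_eq_sum_univ' (f x), map_sum]
      refine Finset.sum_congr rfl fun i _ => ?_
      rw [map_smul, smul_eq_mul]
      rfl
    have hw : ∑ i, σ (a i) • v i = 0 := by
      refine h_nondeg hF fun y => ?_
      rw [← h_swap hF y]
      let hy : V →+ F :=
        { toFun := fun z => h y z, map_zero' := h_zero_right hF y, map_add' := fun z z' => h_add_right hF y z z' }
      have : h y (∑ i, σ (a i) • v i) = ∑ i, h y (v i) * a i := by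
        show hy (∑ i, σ (a i) • v i) = _
        rw [map_sum]
        refine Finset.sum_congr rfl fun i _ => ?_
        show h y (σ (a i) • v i) = _
        rw [h_smul_right hF, frob_frob, mul_comm]
      rw [this, key, map_zero]
    refine hg0 (LinearMap.pi_ext' fun i => LinearMap.ext_ring ?_)
    have := congrArg σ (Fintype.linearIndependent_iff.mp hv _ hw i)
    rw [frob_frob, map_zero] at this
    simpa using this
  obtain ⟨x, hx⟩ := hsurj ▸ Submodule.mem_top (x := c) |> LinearMap.mem_range.mp
  exact ⟨x, fun i => congrFun hx i⟩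

/-- Adding a multiple of an isotropic vector makes a vector isotropic. -/
theorem exists_iso_shift {x w : V} (hw : h w w = 0) (hxw : h x w ≠ 0) :
    ∃ m : F, h (x + m • w) (x + m • w) = 0 := by
  obtain ⟨t, ht⟩ := exists_trace_one hF
  have hs := h_swap hF x w
  refine ⟨h x x * t / h w x, ?_⟩
  have h0 : h w x ≠ 0 := fun e => hxw (swap_zero hF e)
  set m := h x x * t / h w x
  have hm : m * h w x = h x x * t := div_mul_cancel₀ _ h0
  have hm' : σ m * h x w = h x x * σ t := by
    have := congrArg σ hm
    rwa [map_mul, map_mul, h_swap hF x x, h_swap hF w x] at this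
  rw [h_add_left, h_add_right hF, h_add_right hF, h_smul_left, h_smul_left, h_smul_right hF, h_smul_right hF, hw]
  linear_combination hm + hm' + (h x x) * ht + (h x x) * two_zero hF

/-- An isotropic vector with prescribed products, shifted along an isotropic vector perpendicular to the family. -/
theorem exists_iso_vals {k : ℕ} {v : Fin k → V} (hv : LinearIndependent F v) (c : Fin k → F) {w : V}
    (hw : h w w = 0) (hwv : ∀ i, h w (v i) = 0) (a : Fin k → F) (hwe : w = ∑ i, a i • v i)
    (hne : ∑ i, σ (a i) * c i ≠ 0) : ∃ x, h x x = 0 ∧ ∀ i, h x (v i) = c i := by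
  obtain ⟨x, hx⟩ := exists_vals hF hv c
  have hxw : h x w ≠ 0 := by
    let hy : V →+ F :=
      { toFun := fun z => h x z, map_zero' := h_zero_right hF x, map_add' := fun z z' => h_add_right hF x z z' }
    have : hy w = ∑ i, σ (a i) * c i := by
      rw [hwe, map_sum]
      refine Finset.sum_congr rfl fun i _ => ?_
      show h x (a i • v i) = _
      rw [h_smul_right hF, hx i]
    change h x w = _ at this
    rw [this]
    exact hne
  obtain ⟨m, hm⟩ := exists_iso_shift hF hw hxw
  refine ⟨x + m • w, hm, fun i => ?_⟩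
  rw [h_add_left, h_smul_left, hwv i, mul_zero, add_zero, hx i]

/-- Three independent vectors from two and one outside. -/
theorem li_three {u v w : V} : LinearIndependent F ![u, v, w] ↔
    ∀ a b c : F, a • u + b • v + c • w = 0 → a = 0 ∧ b = 0 ∧ c = 0 := by
  rw [Fintype.linearIndependent_iff]
  constructor
  · intro hh a b c e
    have := hh ![a, b, c] (by simpa [Fin.sum_univ_three] using e)
    exact ⟨this 0, this 1, this 2⟩
  · intro hh g e
    obtain ⟨h1, h2, h3⟩ := hh (g 0) (g 1) (g 2) (by simpa [Fin.sum_univ_three] using e)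
    intro i
    fin_cases i <;> assumption

/-- A vector outside the line of two orthogonal points is separated from them by an isotropic vector. -/
theorem exists_sep {u v w : V} (hw : h w w = 0)
    (huw : h u w = 0) (hvw : h v w = 0) (hind : LinearIndependent F ![u, v, w]) :
    ∃ z, h z z = 0 ∧ h z u = 0 ∧ h z v = 0 ∧ h z w = 1 := by
  obtain ⟨z, hz, hz'⟩ := exists_iso_vals hF hind ![0, 0, 1] (w := w) hw (fun i => by
    fin_cases i
    exacts [swap_zero hF huw, swap_zero hF hvw, hw]) ![0, 0, 1] (by simp [Fin.sum_univ_three])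
    (by simp [Fin.sum_univ_three])
  exact ⟨z, hz, hz' 0, hz' 1, hz' 2⟩

/-- An involution with plane image three is no square, even modulo scalars. -/
theorem rank_three_no_square {X Y Z : V} (hX : h X X = 0) (hY : h Y Y = 0) (hZ : h Z Z = 0) (hXY : h X Y = 0)
    (hXZ : h X Z = 0) (hYZ : h Y Z = 0) (hind : LinearIndependent F ![X, Y, Z]) (k : Cfsg.SU 6 F 2) :
    π (k * k) ≠ π (tu hF X * tu hF Y * tu hF Z) := by
  intro e
  set A := tu hF X * tu hF Y * tu hF Z with hA
  obtain ⟨z, hz, hzA⟩ := (QuotientGroup.mk'_eq_mk' _).mp e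
  have hzc : ∀ g, Commute g z := fun g => Subgroup.mem_center_iff.mp hz g
  have hz3 := center_cube hF hz
  set g := k ^ 3 with hg
  have hAA : A * A = 1 := by
    have c1 := tu_commute hF hX hY hXY
    have c2 := (tu_commute hF hX hZ hXZ).mul_left (tu_commute hF hY hZ hYZ)
    rw [hA, ← pow_two, c2.mul_pow, c1.mul_pow, pow_two, pow_two, pow_two, tu_sq hF hX, tu_sq hF hY, tu_sq hF hZ,
      one_mul, one_mul]
  have hg2 : g * g = A := by
    have e1 : k * k = A * z⁻¹ := eq_mul_inv_of_mul_eq hzA
    rw [hg, ← pow_add, show 3 + 3 = 2 * 3 from rfl, pow_mul, pow_two k, e1, ((hzc A).inv_right).mul_pow, inv_pow, hz3,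
      inv_one, mul_one, pow_succ, pow_two, hAA, one_mul]
  have sw := fun {a b : V} (q : h a b = 0) => swap_zero hF q
  have hAv : ∀ v, mat A *ᵥ v = v + (h v X • X + h v Y • Y + h v Z • Z) := fun v => by
    simp only [hA, mat_mul, ← mulVec_mulVec, tu_mulVec hF hX, tu_mulVec hF hY, tu_mulVec hF hZ, h_add_left,
      h_smul_left, sw hXY, sw hXZ, sw hYZ, mul_zero, add_zero]
    abel
  have h2 : ∀ v : V, v + v = 0 := vadd_self hF
  let N : V →ₗ[F] V :=
    { toFun := fun v => mat g *ᵥ v + v
      map_add' := fun a b => by rw [mulVec_add]; abel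
      map_smul' := fun c a => by rw [mulVec_smul, RingHom.id_apply, smul_add] }
  have hN2 : ∀ v, N (N v) = h v X • X + h v Y • Y + h v Z • Z := fun v => by
    show mat g *ᵥ (mat g *ᵥ v + v) + (mat g *ᵥ v + v) = _
    rw [mulVec_add, mulVec_mulVec, ← mat_mul, hg2, hAv]
    have := h2 (mat g *ᵥ v)
    have := h2 v
    calc v + (h v X • X + h v Y • Y + h v Z • Z) + mat g *ᵥ v + (mat g *ᵥ v + v)
        = (h v X • X + h v Y • Y + h v Z • Z) + ((v + v) + (mat g *ᵥ v + mat g *ᵥ v)) := by abel
      _ = _ := by rw [h2, h2, add_zero, add_zero]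
  set U : Submodule F V := Submodule.span F (Set.range ![X, Y, Z]) with hU
  have hXU : X ∈ U := Submodule.subset_span ⟨0, rfl⟩
  have hYU : Y ∈ U := Submodule.subset_span ⟨1, rfl⟩
  have hZU : Z ∈ U := Submodule.subset_span ⟨2, rfl⟩
  have horth : ∀ i j, h (![X, Y, Z] i) (![X, Y, Z] j) = 0 := by
    intro i j
    fin_cases i <;> fin_cases j <;>
      first
      | exact hX | exact hY | exact hZ | exact hXY | exact hXZ | exact hYZ
      | exact sw hXY | exact sw hXZ | exact sw hYZ
  have hker : ∀ v, N (N v) = 0 ↔ v ∈ U := fun v => by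
    refine ⟨fun q => ?_, fun q => ?_⟩
    · rw [hN2] at q
      obtain ⟨a, b, c⟩ := (li_three hF).mp hind _ _ _ q
      exact Unique.mem_span_plane hF hind horth fun i => by fin_cases i <;> assumption
    · rw [hN2]
      have hz : ∀ i, h v (![X, Y, Z] i) = 0 := by
        intro i
        induction q using Submodule.span_induction with
        | mem a ha => obtain ⟨j, rfl⟩ := ha; exact horth j i
        | zero => exact h_zero_left hF _
        | add a b _ _ ha hb => rw [h_add_left, ha, hb, add_zero]
        | smul c a _ ha => rw [h_smul_left, ha, mul_zero]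
      have a0 : h v X = 0 := hz 0
      have b0 : h v Y = 0 := hz 1
      have c0 : h v Z = 0 := hz 2
      rw [a0, b0, c0, zero_smul, zero_smul, zero_smul, add_zero, add_zero]
  have hsurj : ∀ u ∈ U, ∃ v, N (N v) = u := by
    intro u hu
    obtain ⟨c, rfl⟩ := Submodule.mem_span_range_iff_exists_fun F |>.mp hu
    obtain ⟨v, hv⟩ := exists_vals hF hind c
    refine ⟨v, ?_⟩
    rw [hN2, Fin.sum_univ_three]
    rw [show h v X = c 0 from hv 0, show h v Y = c 1 from hv 1, show h v Z = c 2 from hv 2]
    rfl
  have hNU : ∀ v ∈ U, N v ∈ U := fun v hv => (hker _).mp (by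
    have := congrArg N ((hker v).mpr hv)
    rw [map_zero] at this
    exact this)
  let M : U →ₗ[F] U := N.restrict hNU
  have hM : LinearMap.ker M = LinearMap.range M := by
    ext ⟨u, hu⟩
    constructor
    · intro q
      have q' : N u = 0 := congrArg Subtype.val (LinearMap.mem_ker.mp q)
      obtain ⟨v, rfl⟩ := hsurj u hu
      exact ⟨⟨N v, (hker _).mp q'⟩, Subtype.ext rfl⟩
    · rintro ⟨⟨w, hw⟩, q⟩
      have q' : N w = u := congrArg Subtype.val q
      refine LinearMap.mem_ker.mpr (Subtype.ext ?_)
      show N u = 0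
      rw [← q']
      exact (hker w).mpr hw
  have hfr := LinearMap.finrank_range_add_finrank_ker M
  have hUr : Module.finrank F U = 3 := by rw [hU, finrank_span_eq_card hind, Fintype.card_fin]
  rw [hM, hUr] at hfr
  omega

/-- Two transvections at points of a line acting on a plane as a single transvection. -/
theorem exists_pair_move {X Y Z : V} (hX : h X X = 0) (hY : h Y Y = 0) (hZ : h Z Z = 0) (hXY : h X Y = 0)
    (hXZ : h X Z = 0) (hYZ : h Y Z = 0) (hind : LinearIndependent F ![X, Y, Z]) (a : Fin 3 → F) (c : Fin 3 → F)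
    (hac : ∑ i, σ (a i) * c i = 0) (hc : c ≠ 0) :
    ∃ x y : V, h x x = 0 ∧ h y y = 0 ∧ x ≠ 0 ∧ y ≠ 0 ∧ h x y = 0 ∧
      ∀ b : Fin 3 → F, (b 0 • X + b 1 • Y + b 2 • Z) + h (b 0 • X + b 1 • Y + b 2 • Z) x • x +
          h ((b 0 • X + b 1 • Y + b 2 • Z) + h (b 0 • X + b 1 • Y + b 2 • Z) x • x) y • y =
        (b 0 • X + b 1 • Y + b 2 • Z) + (b 0 * σ (c 0) + b 1 * σ (c 1) + b 2 * σ (c 2)) •
          (a 0 • X + a 1 • Y + a 2 • Z) := by
  classical
  obtain ⟨i, hi⟩ : ∃ i, c i ≠ 0 := Function.ne_iff.mp hc
  have sw := fun {a b : V} (q : h a b = 0) => swap_zero hF q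
  have horth : ∀ i j, h (![X, Y, Z] i) (![X, Y, Z] j) = 0 := by
    intro i j
    fin_cases i <;> fin_cases j <;>
      first
      | exact hX | exact hY | exact hZ | exact hXY | exact hXZ | exact hYZ
      | exact sw hXY | exact sw hXZ | exact sw hYZ
  obtain ⟨x, hx, hxv⟩ := exists_iso_vals hF hind c (w := ![X, Y, Z] i) (horth i i) (horth i)
    (Pi.single i 1) (by
      rw [Finset.sum_eq_single i (fun j _ hj => by rw [Pi.single_eq_of_ne hj, zero_smul])
        (fun q => absurd (Finset.mem_univ i) q), Pi.single_eq_same, one_smul]) (by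
      rw [Finset.sum_eq_single i (fun j _ hj => by rw [Pi.single_eq_of_ne hj, map_zero, zero_mul])
        (fun q => absurd (Finset.mem_univ i) q), Pi.single_eq_same, map_one, one_mul]
      exact hi)
  have x0 : h x X = c 0 := hxv 0
  have x1 : h x Y = c 1 := hxv 1
  have x2 : h x Z = c 2 := hxv 2
  set n := a 0 • X + a 1 • Y + a 2 • Z with hn
  have hxn : h x n = 0 := by
    rw [Fin.sum_univ_three] at hac
    simp only [hn, h_add_right hF, h_smul_right hF, x0, x1, x2]
    exact hac
  have hnx := sw hxn
  have nn : h n n = 0 := by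
    simp only [hn, h_add_left, h_add_right hF, h_smul_left, h_smul_right hF, hX, hY, hZ, hXY, hXZ, hYZ, sw hXY,
      sw hXZ, sw hYZ, mul_zero, add_zero]
  set y := x + n with hy
  have hxy : h x y = 0 := by rw [hy, h_add_right hF, hx, hxn, add_zero]
  have hyy : h y y = 0 := by
    clear_value n
    rw [hy, h_add_left, h_add_right hF, h_add_right hF, hx, hxn, hnx, nn, add_zero, add_zero]
  have hx0 : x ≠ 0 := fun e => hi (by rw [← hxv i, e, h_zero_left hF])
  have hy0 : y ≠ 0 := by
    intro e
    have e' : h y (![X, Y, Z] i) = 0 := by rw [e, h_zero_left hF]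
    rw [hy, h_add_left, hxv i] at e'
    refine hi ?_
    rw [← e']
    simp only [hn, h_add_left, h_smul_left]
    have := horth 0 i; have := horth 1 i; have := horth 2 i
    simp only [Matrix.cons_val_zero, Matrix.cons_val_one, Matrix.cons_val_two, Matrix.head_cons, Matrix.tail_cons] at *
    simp [*]
  refine ⟨x, y, hx, hyy, hx0, hy0, hxy, fun b => ?_⟩
  set v := b 0 • X + b 1 • Y + b 2 • Z with hv
  have hvn : h v n = 0 := by
    simp only [hv, hn, h_add_left, h_add_right hF, h_smul_left, h_smul_right hF, hX, hY, hZ, hXY, hXZ, hYZ, sw hXY,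
      sw hXZ, sw hYZ, mul_zero, add_zero]
  have hvx : h v x = b 0 * σ (c 0) + b 1 * σ (c 1) + b 2 * σ (c 2) := by
    simp only [hv, h_add_left, h_smul_left, ← h_swap hF x X, ← h_swap hF x Y, ← h_swap hF x Z, x0, x1, x2]
  have hvy : h (v + h v x • x) y = h v x := by
    rw [h_add_left, h_smul_left, hxy, mul_zero, add_zero, hy, h_add_right hF, hvn, add_zero]
  rw [hvy, hvx, hy, smul_add, ← add_assoc]
  rw [add_assoc v, ← add_smul, add_self hF, zero_smul, add_zero]

end CfsgFi22Rec
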