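/-
Involutions with centralisers twofold over U6(2): charts, the chart-free collinearity relation, and lines.
-/
import Cfsg.Agent.Lib.Fi22Rec.Vec

set_option autoImplicit false
set_option linter.unusedSectionVars false

namespace CfsgFi22Rec

open Matrix Cfsg CfsgLib CfsgLib.UnitaryTransvection CfsgLib.UnitarySimple CfsgThreeTrans.M22

variable {G : Type*} [Group G]
variable {F : Type} [Field F] [Fintype F] [DecidableEq F]

local notation "h" => Cfsg.hermForm 6 F 2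
local notation "π" => QuotientGroup.mk' (Subgroup.center (Cfsg.SU 6 F 2))

theorem mem_cent {x g : G} : g ∈ Subgroup.centralizer ({x} : Set G) ↔ Commute x g := by
  rw [Subgroup.mem_centralizer_singleton_iff]
  exact ⟨fun e => e.symm, fun e => e.symm⟩

/-- The centraliser of a member as a double cover of U6(2), the other members giving the transvections. -/
structure Chart (D : Set G) (hF : Fintype.card F = 2 ^ 2) (x : G) where
  mem : x ∈ D
  hne : x ≠ 1
  hsq : x * x = 1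
  ψ : ↥(Subgroup.centralizer ({x} : Set G)) →* Cfsg.PSU 6 F 2
  sur : Function.Surjective ψ
  ker : ∀ g, ψ g = 1 ↔ (g : G) = 1 ∨ (g : G) = x
  perfect : commutator ↥(Subgroup.centralizer ({x} : Set G)) = ⊤
  pt : ∀ y : ↥(Subgroup.centralizer ({x} : Set G)), (y : G) ∈ D → (y : G) ≠ x →
    ∃ u : Iso F, ψ y = π (tu hF u.1)
  lift : ∀ u : Iso F, ∃ y : ↥(Subgroup.centralizer ({x} : Set G)), (y : G) ∈ D ∧ (y : G) ≠ x ∧ ψ y = π (tu hF u.1)
  inj : ∀ y y' : ↥(Subgroup.centralizer ({x} : Set G)), (y : G) ∈ D → (y : G) ≠ x → (y' : G) ∈ D → (y' : G) ≠ x →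
    ψ y = ψ y' → y = y'

/-- A class of involutions with a chart at every member. -/
structure Local (D : Set G) (hF : Fintype.card F = 2 ^ 2) : Prop where
  conj : ∀ g : G, ∀ x ∈ D, g * x * g⁻¹ ∈ D
  chart : ∀ x ∈ D, Nonempty (Chart D hF x)

/-- Two different members through which, with `a`, every member commuting with all three commutes with `z`. -/
structure Col (D : Set G) (a x y z : G) : Prop where
  hx : x ∈ D
  hy : y ∈ D
  hz : z ∈ D
  xa : x ≠ a
  ya : y ≠ a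
  za : z ≠ a
  xy : x ≠ y
  cax : Commute a x
  cay : Commute a y
  caz : Commute a z
  cxy : Commute x y
  cxz : Commute x z
  cyz : Commute y z
  perp : ∀ w ∈ D, Commute a w → Commute x w → Commute y w → Commute z w

theorem Col.swap {D : Set G} {a i x y : G} (ha : a ∈ D) (hc : Col D a i x y) (hyi : y ≠ i) :
    Col D i a x y :=
  { hx := ha, hy := hc.hy, hz := hc.hz, xa := hc.xa.symm, ya := hc.xy.symm, za := hyi, xy := hc.ya.symm,
    cax := hc.cax.symm, cay := hc.cxy, caz := hc.cxz, cxy := hc.cay, cxz := hc.caz, cyz := hc.cyz,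
    perp := fun w hw h1 h2 h3 => hc.perp w hw h2 h1 h3 }

variable {D : Set G} {hF : Fintype.card F = 2 ^ 2} {a : G}

namespace Chart

variable (A : Chart D hF a)
include A

/-- The member at a point. -/
noncomputable def pnt (u : Iso F) : G := (A.lift u).choose.1

/-- The member at a point, in the centraliser. -/
noncomputable def pnt' (u : Iso F) : ↥(Subgroup.centralizer ({a} : Set G)) := (A.lift u).choose

theorem pnt_val (u : Iso F) : (A.pnt' u : G) = A.pnt u := rfl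

theorem pnt_mem (u : Iso F) : A.pnt u ∈ D := (A.lift u).choose_spec.1

theorem pnt_ne (u : Iso F) : A.pnt u ≠ a := (A.lift u).choose_spec.2.1

theorem ψ_pnt (u : Iso F) : A.ψ (A.pnt' u) = π (tu hF u.1) := (A.lift u).choose_spec.2.2

theorem pnt_comm (u : Iso F) : Commute a (A.pnt u) := mem_cent.mp (A.lift u).choose.2

theorem pnt_surj {y : G} (hy : y ∈ D) (hya : y ≠ a) (hc : Commute a y) : ∃ u, A.pnt u = y := by
  obtain ⟨u, hu⟩ := A.pt ⟨y, mem_cent.mpr hc⟩ hy hya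
  exact ⟨u, congrArg Subtype.val (A.inj (A.pnt' u) ⟨y, mem_cent.mpr hc⟩ (A.pnt_mem u) (A.pnt_ne u) hy hya
    ((A.ψ_pnt u).trans hu.symm))⟩

theorem pnt_eq_iff (u w : Iso F) : A.pnt u = A.pnt w ↔ ∃ c : F, u.1 = c • w.1 := by
  rw [← mk_eq_iff hF u.2.2 u.2.1 w.2.2, ← A.ψ_pnt, ← A.ψ_pnt]
  exact ⟨fun e => congrArg A.ψ (Subtype.ext e), fun e =>
    congrArg Subtype.val (A.inj _ _ (A.pnt_mem u) (A.pnt_ne u) (A.pnt_mem w) (A.pnt_ne w) e)⟩

theorem ker' {g : ↥(Subgroup.centralizer ({a} : Set G))} (e : A.ψ g = 1) : (g : G) = 1 ∨ (g : G) = a :=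
  (A.ker g).mp e

theorem comm_base (g : ↥(Subgroup.centralizer ({a} : Set G))) : Commute g ⟨a, mem_cent.mpr (Commute.refl a)⟩ :=
  Subtype.ext (mem_cent.mp g.2).symm.eq

theorem pnt_comm_iff (u w : Iso F) : Commute (A.pnt u) (A.pnt w) ↔ h u.1 w.1 = 0 := by
  refine ⟨fun e => of_mk_tu_commute hF u.2.2 u.2.1 w.2.2 ?_, fun e => ?_⟩
  · rw [← A.ψ_pnt, ← A.ψ_pnt]
    exact (show Commute (A.pnt' u) (A.pnt' w) from Subtype.ext e.eq).map A.ψ
  · have hψd : ∀ g, A.ψ g = 1 → g = 1 ∨ g = ⟨a, mem_cent.mpr (Commute.refl a)⟩ := fun g hg =>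
      (A.ker' hg).imp (fun q => Subtype.ext q) fun q => Subtype.ext q
    have := (lift_quaternion hF A.ψ A.sur hψd (d := ⟨a, mem_cent.mpr (Commute.refl a)⟩) (Subtype.ext A.hsq)
      (fun g => (A.comm_base g).symm) u.2.2 w.2.2 e w.2.1 (A.ψ_pnt u) (A.ψ_pnt w)).2
    exact congrArg Subtype.val this.eq

theorem pnt_sq (u : Iso F) : A.pnt u * A.pnt u = 1 := by
  have hψd : ∀ g, A.ψ g = 1 → g = 1 ∨ g = ⟨a, mem_cent.mpr (Commute.refl a)⟩ := fun g hg =>
    (A.ker' hg).imp (fun q => Subtype.ext q) fun q => Subtype.ext q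
  exact congrArg Subtype.val (lift_quaternion hF A.ψ A.sur hψd (d := ⟨a, mem_cent.mpr (Commute.refl a)⟩)
    (Subtype.ext A.hsq) (fun g => (A.comm_base g).symm) u.2.2 u.2.2 u.2.2 u.2.1 (A.ψ_pnt u) (A.ψ_pnt u)).1

theorem not_square_self {g : G} (hg : Commute a g) : g * g ≠ a := fun e => by
  have hψd : ∀ q, A.ψ q = 1 → q = 1 ∨ q = ⟨a, mem_cent.mpr (Commute.refl a)⟩ := fun q hq =>
    (A.ker' hq).imp (fun r => Subtype.ext r) fun r => Subtype.ext r
  exact not_square hF A.ψ A.sur hψd (Subtype.ext A.hsq) (fun q => (A.comm_base q).symm)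
    (fun q => A.hne (congrArg Subtype.val q)) ((A.ker _).mpr (Or.inr rfl)) ⟨g, mem_cent.mpr hg⟩ (Subtype.ext e)

theorem pnt_conj (hL : Local D hF) (g : ↥(Subgroup.centralizer ({a} : Set G))) {k : Cfsg.SU 6 F 2}
    (hk : A.ψ g = π k) (u w : Iso F) {c : F} (he : mat k *ᵥ u.1 = c • w.1) :
    (g : G) * A.pnt u * (g : G)⁻¹ = A.pnt w := by
  have hc : c ≠ 0 := fun q => mat_ne_zero _ u.2.1 (by rw [he, q, zero_smul])
  refine congrArg Subtype.val (A.inj (g * A.pnt' u * g⁻¹) (A.pnt' w) (hL.conj _ _ (A.pnt_mem u)) ?_ (A.pnt_mem w)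
    (A.pnt_ne w) ?_)
  · intro q
    have hga : (g : G) * a * (g : G)⁻¹ = a := mul_inv_eq_iff_eq_mul.mpr (mem_cent.mp g.2).symm.eq
    exact A.pnt_ne u (mul_left_cancel (a := (g : G)) (mul_right_cancel (b := (g : G)⁻¹) (q.trans hga.symm)))
  · rw [map_mul, map_mul, map_inv, hk, A.ψ_pnt, A.ψ_pnt, ← map_mul, ← map_inv, ← map_mul, tu_conj hF k u.2.2, he,
      tu_smul hF w.2.2 hc]

/-- Conjugation of a member by a member. -/
theorem pnt_refl (hL : Local D hF) (u w v : Iso F) {c : F} (he : u.1 + h u.1 w.1 • w.1 = c • v.1) :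
    A.pnt w * A.pnt u * A.pnt w = A.pnt v := by
  have := A.pnt_conj hL (A.pnt' w) (A.ψ_pnt w) u v (by rw [tu_mulVec hF w.2.2, he])
  rwa [pnt_val, inv_eq_of_mul_eq_one_right (A.pnt_sq w)] at this

theorem braid (hL : Local D hF) (u w : Iso F) (huw : h u.1 w.1 ≠ 0) :
    A.pnt u * A.pnt w * A.pnt u = A.pnt w * A.pnt u * A.pnt w := by
  have hwu : h w.1 u.1 ≠ 0 := fun e => huw (swap_zero hF e)
  let v : Iso F := ⟨u.1 + h u.1 w.1 • w.1, fun e => by
      have := congrArg (fun z => h z w.1) e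
      simp only [h_add_left, h_smul_left, w.2.2, mul_zero, add_zero, h_zero_left hF] at this
      exact huw this, by
      have := su_h (tu hF w.1) u.1 u.1
      rwa [tu_mulVec hF w.2.2, u.2.2] at this⟩
  rw [A.pnt_refl hL u w v (c := 1) (one_smul _ _).symm,
    A.pnt_refl hL w u v (c := h w.1 u.1) ?_]
  show w.1 + h w.1 u.1 • u.1 = h w.1 u.1 • (u.1 + h u.1 w.1 • w.1)
  rw [smul_add, smul_smul, show h w.1 u.1 * h u.1 w.1 = 1 by rw [← h_swap hF w.1 u.1]; exact norm_one hF hwu,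
    one_smul, add_comm]

theorem pnt_cases {w y : G} (hw : w ∈ D) (hy : y ∈ D) (hwa : Commute a w) (hya : Commute a y)
    (hc : ¬ Commute w y) : ∃ u v : Iso F, A.pnt u = w ∧ A.pnt v = y ∧ h u.1 v.1 ≠ 0 := by
  have w1 : w ≠ a := fun e => hc (e ▸ hya)
  have y1 : y ≠ a := fun e => hc (e ▸ hwa.symm)
  obtain ⟨u, hu⟩ := A.pnt_surj hw w1 hwa
  obtain ⟨v, hv⟩ := A.pnt_surj hy y1 hya
  exact ⟨u, v, hu, hv, fun e => hc (by rw [← hu, ← hv]; exact (A.pnt_comm_iff u v).mpr e)⟩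

theorem order_three (hL : Local D hF) {w y : G} (hw : w ∈ D) (hy : y ∈ D) (hwa : Commute a w) (hya : Commute a y)
    (hc : ¬ Commute w y) : (w * y) ^ 3 = 1 := by
  obtain ⟨u, v, rfl, rfl, hne⟩ := A.pnt_cases hw hy hwa hya hc
  calc (A.pnt u * A.pnt v) ^ 3
      = (A.pnt u * A.pnt v * A.pnt u) * (A.pnt v * A.pnt u * A.pnt v) := by
        simp only [pow_succ, pow_zero, one_mul, mul_assoc]
    _ = (A.pnt v * A.pnt u * A.pnt v) * (A.pnt v * A.pnt u * A.pnt v) := by rw [A.braid hL u v hne]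
    _ = A.pnt v * A.pnt u * (A.pnt v * A.pnt v) * A.pnt u * A.pnt v := by simp only [mul_assoc]
    _ = 1 := by rw [A.pnt_sq, mul_one, mul_assoc (A.pnt v), A.pnt_sq, mul_one, A.pnt_sq]

/-- Distinct points are independent. -/
theorem li_two {u v : Iso F} (hne : A.pnt u ≠ A.pnt v) : ∀ c d : F, c • u.1 + d • v.1 = 0 → c = 0 ∧ d = 0 := by
  intro c d e
  by_cases hc : c = 0
  · refine ⟨hc, ?_⟩
    rw [hc, zero_smul, zero_add] at e
    exact (smul_eq_zero.mp e).resolve_right v.2.1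
  · exfalso
    refine hne ((A.pnt_eq_iff u v).mpr ⟨-(c⁻¹ * d), ?_⟩)
    have := congrArg (fun z => c⁻¹ • z) e
    simp only [smul_add, smul_smul, inv_mul_cancel₀ hc, one_smul, smul_zero] at this
    rw [neg_smul]
    exact eq_neg_of_add_eq_zero_left this

theorem li_of_not_span {u v w : Iso F} (hne : A.pnt u ≠ A.pnt v) (hw : ∀ c d : F, w.1 ≠ c • u.1 + d • v.1) :
    LinearIndependent F ![u.1, v.1, w.1] := by
  refine (li_three hF).mpr fun p q r e => ?_
  by_cases hr : r = 0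
  · rw [hr, zero_smul, add_zero] at e
    exact ⟨(A.li_two hne p q e).1, (A.li_two hne p q e).2, hr⟩
  · exfalso
    refine hw (-(r⁻¹ * p)) (-(r⁻¹ * q)) ?_
    have := congrArg (fun z => r⁻¹ • z) e
    simp only [smul_add, smul_smul, inv_mul_cancel₀ hr, one_smul, smul_zero] at this
    rw [neg_smul, neg_smul, ← neg_add]
    exact eq_neg_of_add_eq_zero_right this

theorem col_iff {u v w : Iso F} (hne : A.pnt u ≠ A.pnt v) (huv : h u.1 v.1 = 0) (huw : h u.1 w.1 = 0)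
    (hvw : h v.1 w.1 = 0) :
    Col D a (A.pnt u) (A.pnt v) (A.pnt w) ↔ ∃ c d : F, w.1 = c • u.1 + d • v.1 := by
  refine ⟨fun hc => ?_, fun ⟨c, d, e⟩ => ?_⟩
  · by_contra hcon
    push Not at hcon
    obtain ⟨z, zz, zu, zv, zw⟩ := exists_sep hF w.2.2 huw hvw (A.li_of_not_span hne hcon)
    have z0 : z ≠ 0 := fun e => one_ne_zero (α := F) (by rw [← zw, e, h_zero_left hF])
    let Z : Iso F := ⟨z, z0, zz⟩
    have := hc.perp (A.pnt Z) (A.pnt_mem Z) (A.pnt_comm Z) ((A.pnt_comm_iff u Z).mpr (swap_zero hF zu))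
      ((A.pnt_comm_iff v Z).mpr (swap_zero hF zv))
    exact one_ne_zero (α := F) (zw.symm.trans (swap_zero hF ((A.pnt_comm_iff w Z).mp this)))
  · refine { hx := A.pnt_mem _, hy := A.pnt_mem _, hz := A.pnt_mem _, xa := A.pnt_ne _, ya := A.pnt_ne _,
             za := A.pnt_ne _, xy := hne, cax := A.pnt_comm _, cay := A.pnt_comm _, caz := A.pnt_comm _,
             cxy := (A.pnt_comm_iff _ _).mpr huv, cxz := (A.pnt_comm_iff _ _).mpr huw,
             cyz := (A.pnt_comm_iff _ _).mpr hvw, perp := fun z hz hza hzu hzv => ?_ }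
    by_cases hza' : z = a
    · rw [hza']; exact (A.pnt_comm w).symm
    obtain ⟨Z, rfl⟩ := A.pnt_surj hz hza' hza
    refine (A.pnt_comm_iff w Z).mpr ?_
    rw [e, h_add_left, h_smul_left, h_smul_left, (A.pnt_comm_iff u Z).mp hzu, (A.pnt_comm_iff v Z).mp hzv,
      mul_zero, mul_zero, add_zero]

theorem col_span {x y z : G} (hc : Col D a x y z) : ∃ u v w : Iso F,
    A.pnt u = x ∧ A.pnt v = y ∧ A.pnt w = z ∧ A.pnt u ≠ A.pnt v ∧ h u.1 v.1 = 0 ∧
      ∃ c d : F, w.1 = c • u.1 + d • v.1 := by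
  obtain ⟨u, hu⟩ := A.pnt_surj hc.hx hc.xa hc.cax
  obtain ⟨v, hv⟩ := A.pnt_surj hc.hy hc.ya hc.cay
  obtain ⟨w, hw⟩ := A.pnt_surj hc.hz hc.za hc.caz
  have hne : A.pnt u ≠ A.pnt v := by rw [hu, hv]; exact hc.xy
  subst hu hv hw
  have huv := (A.pnt_comm_iff u v).mp hc.cxy
  exact ⟨u, v, w, rfl, rfl, rfl, hne, huv,
    (A.col_iff hne huv ((A.pnt_comm_iff u w).mp hc.cxz) ((A.pnt_comm_iff v w).mp hc.cyz)).mp hc⟩

/-- The product of five members is the base when their images multiply to one in a second way. -/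
theorem prod_cases {l : List (Iso F)} (hl : π (l.map fun u => tu hF u.1).prod = 1) :
    (l.map A.pnt).prod = 1 ∨ (l.map A.pnt).prod = a := by
  have hval : ((l.map A.pnt').prod : G) = (l.map A.pnt).prod := by
    rw [Subgroup.val_list_prod, List.map_map]; rfl
  rw [← hval]
  refine A.ker' ?_
  rw [← hl, map_list_prod, map_list_prod, List.map_map, List.map_map]
  exact congrArg List.prod (List.map_congr_left fun u _ => A.ψ_pnt u)

/-- Five pairwise commuting members with product one or the base lie on a line. -/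
theorem col_of_prod {x y p q r : G} (hm : ∀ w ∈ [x, y, p, q, r], w ∈ D ∧ w ≠ a ∧ Commute a w)
    (hc : ∀ w ∈ [x, y, p, q, r], ∀ w' ∈ [x, y, p, q, r], Commute w w') (hnd : [x, y, p, q, r].Nodup)
    (hp : x * y * p * q * r = 1 ∨ x * y * p * q * r = a) :
    Col D a x y p ∧ Col D a x y q ∧ Col D a x y r := by
  have get : ∀ w ∈ [x, y, p, q, r], ∃ u, A.pnt u = w := fun w hw =>
    A.pnt_surj (hm w hw).1 (hm w hw).2.1 (hm w hw).2.2
  obtain ⟨ux, rfl⟩ := get x (by simp)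
  obtain ⟨uy, rfl⟩ := get y (by simp)
  obtain ⟨up, rfl⟩ := get p (by simp)
  obtain ⟨uq, rfl⟩ := get q (by simp)
  obtain ⟨ur, rfl⟩ := get r (by simp)
  have o : ∀ u w : Iso F, A.pnt u ∈ [A.pnt ux, A.pnt uy, A.pnt up, A.pnt uq, A.pnt ur] →
      A.pnt w ∈ [A.pnt ux, A.pnt uy, A.pnt up, A.pnt uq, A.pnt ur] → h u.1 w.1 = 0 :=
    fun u w hu hw => (A.pnt_comm_iff u w).mp (hc _ hu _ hw)
  have ne : ∀ u w : Iso F, A.pnt u ≠ A.pnt w → π (tu hF u.1) ≠ π (tu hF w.1) := fun u w q e =>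
    q ((A.pnt_eq_iff u w).mpr ((mk_eq_iff hF u.2.2 u.2.1 w.2.2).mp e))
  have nd := hnd
  simp only [List.nodup_cons, List.mem_cons, List.not_mem_nil, or_false, not_or, List.nodup_nil, and_true] at nd
  have hz : π (tu hF ux.1 * tu hF uy.1 * tu hF up.1 * tu hF uq.1 * tu hF ur.1) = 1 := by
    simp only [map_mul, ← A.ψ_pnt]
    simp only [← map_mul]
    exact (A.ker _).mpr hp
  have key := line_only hF ux.2.2 uy.2.2 up.2.2 uq.2.2 ur.2.2 (o _ _ (by simp) (by simp)) (o _ _ (by simp) (by simp))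
    (o _ _ (by simp) (by simp)) (o _ _ (by simp) (by simp)) (o _ _ (by simp) (by simp)) (o _ _ (by simp) (by simp))
    (o _ _ (by simp) (by simp)) (o _ _ (by simp) (by simp)) (o _ _ (by simp) (by simp)) (o _ _ (by simp) (by simp))
    ux.2.1 (ne _ _ nd.1.1) uy.2.1 up.2.1 uq.2.1 ur.2.1 (ne _ _ nd.2.2.1.1) (ne _ _ nd.2.2.1.2) (ne _ _ nd.2.2.2.1) hz
  refine ⟨?_, ?_, ?_⟩ <;>
    exact (A.col_iff nd.1.1 (o _ _ (by simp) (by simp)) (o _ _ (by simp) (by simp)) (o _ _ (by simp) (by simp))).mpr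
      (key _ (by simp))

/-- Two sets of three further members on the line through `x` and `y` agree. -/
theorem col_unique {x y p q r w : G} (hp : Col D a x y p) (hq : Col D a x y q) (hr : Col D a x y r)
    (hw : Col D a x y w) (hnd : [x, y, p, q, r].Nodup) (hwx : w ≠ x) (hwy : w ≠ y) : w ∈ [p, q, r] := by
  obtain ⟨u, v, wp, rfl, rfl, rfl, hne, huv, hpl⟩ := A.col_span hp
  obtain ⟨wq, rfl⟩ := A.pnt_surj hq.hz hq.za hq.caz
  obtain ⟨wr, rfl⟩ := A.pnt_surj hr.hz hr.za hr.caz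
  obtain ⟨ww, rfl⟩ := A.pnt_surj hw.hz hw.za hw.caz
  have sp : ∀ z : Iso F, Col D a (A.pnt u) (A.pnt v) (A.pnt z) → ∃ c d : F, z.1 = c • u.1 + d • v.1 := fun z hz =>
    (A.col_iff hne huv ((A.pnt_comm_iff u z).mp hz.cxz) ((A.pnt_comm_iff v z).mp hz.cyz)).mp hz
  have ne : ∀ s t : Iso F, A.pnt s ≠ A.pnt t → π (tu hF s.1) ≠ π (tu hF t.1) := fun s t k e =>
    k ((A.pnt_eq_iff s t).mpr ((mk_eq_iff hF s.2.2 s.2.1 t.2.2).mp e))
  have bk : ∀ s t : Iso F, π (tu hF s.1) = π (tu hF t.1) → A.pnt s = A.pnt t := fun s t e =>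
    (A.pnt_eq_iff s t).mpr ((mk_eq_iff hF s.2.2 s.2.1 t.2.2).mp e)
  have hnd' : [π (tu hF u.1), π (tu hF v.1), π (tu hF wp.1), π (tu hF wq.1), π (tu hF wr.1)].Nodup := by
    simp only [List.nodup_cons, List.mem_cons, List.not_mem_nil, or_false, not_or, List.nodup_nil, and_true,
      not_false_iff] at hnd ⊢
    obtain ⟨⟨a1, a2, a3, a4⟩, ⟨b1, b2, b3⟩, ⟨c1, c2⟩, d1⟩ := hnd
    exact ⟨⟨ne _ _ a1, ne _ _ a2, ne _ _ a3, ne _ _ a4⟩, ⟨ne _ _ b1, ne _ _ b2, ne _ _ b3⟩, ⟨ne _ _ c1, ne _ _ c2⟩,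
      ne _ _ d1⟩
  have := line_unique hF u.2.2 v.2.2 huv hnd' wp.2.1 wq.2.1 wr.2.1 (fun s hs => by
    simp only [List.mem_cons, List.not_mem_nil, or_false] at hs
    rcases hs with rfl | rfl | rfl
    exacts [hpl, sp _ hq, sp _ hr]) ww.2.1 (sp _ hw) (ne _ _ hwx) (ne _ _ hwy)
  simp only [List.mem_cons, List.not_mem_nil, or_false] at this ⊢
  rcases this with e | e | e
  exacts [Or.inl (bk _ _ e), Or.inr (Or.inl (bk _ _ e)), Or.inr (Or.inr (bk _ _ e))]

end Chart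

end CfsgFi22Rec
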