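/-
Lines give hexads: the five members of a line multiply to the base, and collinearity is symmetric.
-/
import Cfsg.Agent.Lib.Fi22Rec.Chart

set_option autoImplicit false
set_option linter.unusedSectionVars false

namespace CfsgFi22Rec

open Matrix Cfsg CfsgLib CfsgLib.UnitaryTransvection CfsgLib.UnitarySimple CfsgThreeTrans.M22

variable {G : Type*} [Group G]
variable {F : Type} [Field F] [Fintype F] [DecidableEq F]
variable {D : Set G} {hF : Fintype.card F = 2 ^ 2}

local notation "h" => Cfsg.hermForm 6 F 2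
local notation "π" => QuotientGroup.mk' (Subgroup.center (Cfsg.SU 6 F 2))

theorem Local.mem_one (L : Local D hF) {x : G} (hx : x ∈ D) : x * x = 1 ∧ x ≠ 1 := by
  obtain ⟨A⟩ := L.chart x hx
  exact ⟨A.hsq, A.hne⟩

/-- The five members of a line multiply to the base. -/
theorem five (L : Local D hF) {a x y : G} (ha : a ∈ D) (hx : x ∈ D) (hy : y ∈ D) (xa : x ≠ a) (ya : y ≠ a)
    (xy : x ≠ y) (cax : Commute a x) (cay : Commute a y) (cxy : Commute x y) :
    ∃ p q r, Col D a x y p ∧ Col D a x y q ∧ Col D a x y r ∧ [a, x, y, p, q, r].Nodup ∧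
      (∀ w ∈ [a, x, y, p, q, r], ∀ w' ∈ [a, x, y, p, q, r], Commute w w') ∧ x * y * p * q * r = a := by
  obtain ⟨A⟩ := L.chart a ha
  obtain ⟨u, rfl⟩ := A.pnt_surj hx xa cax
  obtain ⟨v, rfl⟩ := A.pnt_surj hy ya cay
  have huv := (A.pnt_comm_iff u v).mp cxy
  have hne : π (tu hF u.1) ≠ π (tu hF v.1) := fun e =>
    xy ((A.pnt_eq_iff u v).mpr ((mk_eq_iff hF u.2.2 u.2.1 v.2.2).mp e))
  obtain ⟨p, q, r, hm, hpq, hpr, hqr, hnd, hprod⟩ := line_exists hF u.2.2 v.2.2 huv u.2.1 v.2.1 hne
  let P : Iso F := ⟨p, (hm p (by simp)).1, (hm p (by simp)).2.1⟩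
  let Q : Iso F := ⟨q, (hm q (by simp)).1, (hm q (by simp)).2.1⟩
  let R : Iso F := ⟨r, (hm r (by simp)).1, (hm r (by simp)).2.1⟩
  have hline := line_only hF u.2.2 v.2.2 (hm p (by simp)).2.1 (hm q (by simp)).2.1 (hm r (by simp)).2.1 huv
    (hm p (by simp)).2.2.1 (hm q (by simp)).2.2.1 (hm r (by simp)).2.2.1
    (hm p (by simp)).2.2.2 (hm q (by simp)).2.2.2 (hm r (by simp)).2.2.2 hpq hpr hqr u.2.1 hne v.2.1
    (hm p (by simp)).1 (hm q (by simp)).1 (hm r (by simp)).1
    (by simp only [List.nodup_cons, List.mem_cons, List.not_mem_nil, or_false, not_or] at hnd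
        exact hnd.2.2.1.1)
    (by simp only [List.nodup_cons, List.mem_cons, List.not_mem_nil, or_false, not_or] at hnd
        exact hnd.2.2.1.2)
    (by simp only [List.nodup_cons, List.mem_cons, List.not_mem_nil, or_false, not_or] at hnd
        exact hnd.2.2.2.1) (by rw [hprod, map_one])
  have hlist : ∀ w ∈ [u, v, P, Q, R], ∀ w' ∈ [u, v, P, Q, R], h w.1 w'.1 = 0 := by
    intro w hw w' hw'
    simp only [List.mem_cons, List.not_mem_nil, or_false] at hw hw'
    rcases hw with e | e | e | e | e <;> rcases hw' with e' | e' | e' | e' | e' <;> rw [e, e'] <;>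
      first
      | exact u.2.2 | exact v.2.2 | exact P.2.2 | exact Q.2.2 | exact R.2.2
      | exact huv | exact (hm p (by simp)).2.2.1 | exact (hm q (by simp)).2.2.1 | exact (hm r (by simp)).2.2.1
      | exact (hm p (by simp)).2.2.2 | exact (hm q (by simp)).2.2.2 | exact (hm r (by simp)).2.2.2
      | exact hpq | exact hpr | exact hqr
      | exact swap_zero hF huv
      | exact swap_zero hF (hm p (by simp)).2.2.1 | exact swap_zero hF (hm q (by simp)).2.2.1
      | exact swap_zero hF (hm r (by simp)).2.2.1 | exact swap_zero hF (hm p (by simp)).2.2.2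
      | exact swap_zero hF (hm q (by simp)).2.2.2 | exact swap_zero hF (hm r (by simp)).2.2.2
      | exact swap_zero hF hpq | exact swap_zero hF hpr | exact swap_zero hF hqr
  have hcol : ∀ W ∈ [P, Q, R], Col D a (A.pnt u) (A.pnt v) (A.pnt W) := by
    intro W hW
    refine (A.col_iff xy huv (hlist u (by simp) W (by simp at hW ⊢; tauto))
      (hlist v (by simp) W (by simp at hW ⊢; tauto))).mpr (hline W.1 ?_)
    simp only [List.mem_cons, List.not_mem_nil, or_false] at hW ⊢
    rcases hW with rfl | rfl | rfl <;> simp [P, Q, R]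
  have nd5 : [A.pnt u, A.pnt v, A.pnt P, A.pnt Q, A.pnt R].Nodup := by
    have key : ∀ s t : Iso F, π (tu hF s.1) ≠ π (tu hF t.1) → A.pnt s ≠ A.pnt t := fun s t k e =>
      k ((mk_eq_iff hF s.2.2 s.2.1 t.2.2).mpr ((A.pnt_eq_iff s t).mp e))
    simp only [List.nodup_cons, List.mem_cons, List.not_mem_nil, or_false, not_or, List.nodup_nil, and_true,
      not_false_iff] at hnd ⊢
    obtain ⟨⟨a1, a2, a3, a4⟩, ⟨b1, b2, b3⟩, ⟨c1, c2⟩, d1⟩ := hnd
    exact ⟨⟨key u v a1, key u P a2, key u Q a3, key u R a4⟩, ⟨key v P b1, key v Q b2, key v R b3⟩,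
      ⟨key P Q c1, key P R c2⟩, key Q R d1⟩
  have nd6 : [a, A.pnt u, A.pnt v, A.pnt P, A.pnt Q, A.pnt R].Nodup := by
    refine List.nodup_cons.mpr ⟨?_, nd5⟩
    simp only [List.mem_cons, List.not_mem_nil, or_false, not_or]
    exact ⟨xa.symm, ya.symm, (A.pnt_ne P).symm, (A.pnt_ne Q).symm, (A.pnt_ne R).symm⟩
  have c5 : ∀ w ∈ [A.pnt u, A.pnt v, A.pnt P, A.pnt Q, A.pnt R],
      ∀ w' ∈ [A.pnt u, A.pnt v, A.pnt P, A.pnt Q, A.pnt R], Commute w w' := by
    intro w hw w' hw'
    obtain ⟨W, hW, rfl⟩ : ∃ W ∈ [u, v, P, Q, R], A.pnt W = w :=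
      List.mem_map.mp (show w ∈ [u, v, P, Q, R].map A.pnt from hw)
    obtain ⟨W', hW', rfl⟩ : ∃ W ∈ [u, v, P, Q, R], A.pnt W = w' :=
      List.mem_map.mp (show w' ∈ [u, v, P, Q, R].map A.pnt from hw')
    exact (A.pnt_comm_iff W W').mpr (hlist W hW W' hW')
  have c6 : ∀ w ∈ [a, A.pnt u, A.pnt v, A.pnt P, A.pnt Q, A.pnt R],
      ∀ w' ∈ [a, A.pnt u, A.pnt v, A.pnt P, A.pnt Q, A.pnt R], Commute w w' := by
    have ca : ∀ w ∈ [A.pnt u, A.pnt v, A.pnt P, A.pnt Q, A.pnt R], Commute a w := by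
      intro w hw
      obtain ⟨W, -, rfl⟩ : ∃ W ∈ [u, v, P, Q, R], A.pnt W = w :=
        List.mem_map.mp (show w ∈ [u, v, P, Q, R].map A.pnt from hw)
      exact A.pnt_comm W
    intro w hw w' hw'
    rcases List.mem_cons.mp hw with rfl | hw <;> rcases List.mem_cons.mp hw' with rfl | hw'
    exacts [Commute.refl _, ca _ hw', (ca _ hw).symm, c5 _ hw _ hw']
  refine ⟨A.pnt P, A.pnt Q, A.pnt R, hcol P (by simp), hcol Q (by simp), hcol R (by simp), nd6, c6, ?_⟩
  rcases A.prod_cases (l := [u, v, P, Q, R]) (by simp [P, Q, R, hprod, ← mul_assoc]) with k | k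
  swap
  · simpa [mul_assoc] using k
  exfalso
  -- in the chart at the first point the line is `a` and the other four
  set i := A.pnt u with hi
  obtain ⟨B⟩ := L.chart i hx
  have nd := nd6
  simp only [List.nodup_cons, List.mem_cons, List.not_mem_nil, or_false, not_or, List.nodup_nil, and_true,
    not_false_iff] at nd
  obtain ⟨⟨a1, a2, a3, a4, a5⟩, ⟨b1, b2, b3, b4⟩, ⟨c1, c2, c3⟩, ⟨d1, d2⟩, e1⟩ := nd
  have s1 := (hcol P (by simp)).swap ha (Ne.symm b2)
  have s2 := (hcol Q (by simp)).swap ha (Ne.symm b3)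
  have s3 := (hcol R (by simp)).swap ha (Ne.symm b4)
  obtain ⟨wa, wv, wP, ea, ev, eP, -, hav, hP⟩ := B.col_span s1
  obtain ⟨wQ, eQ⟩ := B.pnt_surj s2.hz s2.za s2.caz
  obtain ⟨wR, eR⟩ := B.pnt_surj s3.hz s3.za s3.caz
  have bne : B.pnt wa ≠ B.pnt wv := by rw [ea, ev]; exact a2
  have sp : ∀ W : Iso F, Col D i a (A.pnt v) (B.pnt W) → ∃ c d : F, W.1 = c • wa.1 + d • wv.1 := by
    intro W hW
    replace hW : Col D i (B.pnt wa) (B.pnt wv) (B.pnt W) := by rw [ea, ev]; exact hW
    exact (B.col_iff bne hav ((B.pnt_comm_iff _ _).mp hW.cxz) ((B.pnt_comm_iff _ _).mp hW.cyz)).mp hW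
  obtain ⟨p', q', r', hm', hpq', hpr', hqr', hnd', hprod'⟩ := line_exists hF wa.2.2 wv.2.2 hav wa.2.1 wv.2.1
    (fun e => bne ((B.pnt_eq_iff wa wv).mpr ((mk_eq_iff hF wa.2.2 wa.2.1 wv.2.2).mp e)))
  let P' : Iso F := ⟨p', (hm' p' (by simp)).1, (hm' p' (by simp)).2.1⟩
  let Q' : Iso F := ⟨q', (hm' q' (by simp)).1, (hm' q' (by simp)).2.1⟩
  let R' : Iso F := ⟨r', (hm' r' (by simp)).1, (hm' r' (by simp)).2.1⟩
  have hone : π (tu hF wa.1 * tu hF wv.1 * tu hF wP.1 * tu hF wQ.1 * tu hF wR.1) = 1 := by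
    have hl3 := line_only hF wa.2.2 wv.2.2 (hm' p' (by simp)).2.1 (hm' q' (by simp)).2.1 (hm' r' (by simp)).2.1 hav
      (hm' p' (by simp)).2.2.1 (hm' q' (by simp)).2.2.1 (hm' r' (by simp)).2.2.1
      (hm' p' (by simp)).2.2.2 (hm' q' (by simp)).2.2.2 (hm' r' (by simp)).2.2.2 hpq' hpr' hqr' wa.2.1
      (by simp only [List.nodup_cons, List.mem_cons, List.not_mem_nil, or_false, not_or] at hnd'
          exact hnd'.1.1)
      wv.2.1 (hm' p' (by simp)).1 (hm' q' (by simp)).1 (hm' r' (by simp)).1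
      (by simp only [List.nodup_cons, List.mem_cons, List.not_mem_nil, or_false, not_or] at hnd'
          exact hnd'.2.2.1.1)
      (by simp only [List.nodup_cons, List.mem_cons, List.not_mem_nil, or_false, not_or] at hnd'
          exact hnd'.2.2.1.2)
      (by simp only [List.nodup_cons, List.mem_cons, List.not_mem_nil, or_false, not_or] at hnd'
          exact hnd'.2.2.2.1) (by rw [hprod', map_one])
    set L3 := [π (tu hF p'), π (tu hF q'), π (tu hF r')] with hL3
    have inL : ∀ W : Iso F, Col D i a (A.pnt v) (B.pnt W) → B.pnt W ≠ a → B.pnt W ≠ A.pnt v →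
        π (tu hF W.1) ∈ L3 := fun W hW n1 n2 =>
      line_unique hF wa.2.2 wv.2.2 hav hnd' (hm' p' (by simp)).1 (hm' q' (by simp)).1 (hm' r' (by simp)).1 hl3 W.2.1
        (sp W hW) (fun e => n1 (ea ▸ (B.pnt_eq_iff W wa).mpr ((mk_eq_iff hF W.2.2 W.2.1 wa.2.2).mp e)))
        (fun e => n2 (ev ▸ (B.pnt_eq_iff W wv).mpr ((mk_eq_iff hF W.2.2 W.2.1 wv.2.2).mp e)))
    have mP := inL wP (eP ▸ s1) (fun e => a3 (eP ▸ e).symm) (fun e => c1 (eP ▸ e).symm)
    have mQ := inL wQ (eQ ▸ s2) (fun e => a4 (eQ ▸ e).symm) (fun e => c2 (eQ ▸ e).symm)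
    have mR := inL wR (eR ▸ s3) (fun e => a5 (eR ▸ e).symm) (fun e => c3 (eR ▸ e).symm)
    have bd : ∀ s t : Iso F, B.pnt s ≠ B.pnt t → π (tu hF s.1) ≠ π (tu hF t.1) := fun s t q e =>
      q ((B.pnt_eq_iff s t).mpr ((mk_eq_iff hF s.2.2 s.2.1 t.2.2).mp e))
    have nPQ := bd wP wQ (by rw [eP, eQ]; exact d1)
    have nPR := bd wP wR (by rw [eP, eR]; exact d2)
    have nQR := bd wQ wR (by rw [eQ, eR]; exact e1)
    have hc := fun {s t : Fin 6 → F} (a' : Cfsg.hermForm 6 F 2 s s = 0) (b' : Cfsg.hermForm 6 F 2 t t = 0)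
        (c' : Cfsg.hermForm 6 F 2 s t = 0) => (tu_commute hF a' b' c').map π
    have cpq := hc (hm' p' (by simp)).2.1 (hm' q' (by simp)).2.1 hpq'
    have cpr := hc (hm' p' (by simp)).2.1 (hm' r' (by simp)).2.1 hpr'
    have cqr := hc (hm' q' (by simp)).2.1 (hm' r' (by simp)).2.1 hqr'
    have e3 : π (tu hF wP.1) * π (tu hF wQ.1) * π (tu hF wR.1) =
        π (tu hF p') * π (tu hF q') * π (tu hF r') := by
      have hperm : List.Perm [π (tu hF wP.1), π (tu hF wQ.1), π (tu hF wR.1)] L3 := by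
        refine (List.subperm_of_subset ?_ ?_).perm_of_length_le (by simp [hL3])
        · simp only [List.nodup_cons, List.mem_cons, List.not_mem_nil, or_false, not_or, List.nodup_nil, and_true,
            not_false_iff]
          exact ⟨⟨nPQ, nPR⟩, nQR⟩
        · intro w hw
          simp only [List.mem_cons, List.not_mem_nil, or_false] at hw
          rcases hw with rfl | rfl | rfl
          exacts [mP, mQ, mR]
      have hpw : [π (tu hF wP.1), π (tu hF wQ.1), π (tu hF wR.1)].Pairwise Commute := by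
        refine List.pairwise_of_forall_mem_list fun s hs t ht => ?_
        have hs' := hperm.mem_iff.mp hs
        have ht' := hperm.mem_iff.mp ht
        simp only [hL3, List.mem_cons, List.not_mem_nil, or_false] at hs' ht'
        rcases hs' with rfl | rfl | rfl <;> rcases ht' with rfl | rfl | rfl
        exacts [Commute.refl _, cpq, cpr, cpq.symm, Commute.refl _, cqr, cpr.symm, cqr.symm, Commute.refl _]
      simpa [hL3, mul_assoc] using hperm.prod_eq' hpw
    simp only [map_mul] at hprod' ⊢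
    rw [mul_assoc _ (π (tu hF wP.1)), mul_assoc _ (π (tu hF wP.1) * π (tu hF wQ.1)), e3,
      ← mul_assoc _ (π (tu hF p') * π (tu hF q')), ← mul_assoc _ (π (tu hF p'))]
    have := congrArg π hprod'
    simpa only [map_mul, map_one] using this
  rcases B.prod_cases (l := [wa, wv, wP, wQ, wR]) (by simpa [← mul_assoc] using hone) with q | q
  all_goals
    simp only [List.map_cons, List.map_nil, List.prod_cons, List.prod_nil, mul_one, ea, ev, eP, eQ, eR] at q
    simp only [List.map_cons, List.map_nil, List.prod_cons, List.prod_nil, mul_one] at k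
    rw [show A.pnt v * (A.pnt P * (A.pnt Q * A.pnt R)) = i from ?_] at q
  · exact a1 (by rw [← mul_one a, ← A.pnt_sq u, ← mul_assoc, q, one_mul])
  · rw [← A.pnt_sq u] at k; exact mul_left_cancel k
  · exact (L.mem_one ha).2 (mul_eq_right.mp q)
  · rw [← A.pnt_sq u] at k; exact mul_left_cancel k

/-- Collinearity is symmetric: the base may be exchanged with a third point. -/
theorem Col.perm (L : Local D hF) {a x y z : G} (ha : a ∈ D) (hc : Col D a x y z) (zx : z ≠ x) (zy : z ≠ y) :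
    Col D x y z a := by
  obtain ⟨p, q, r, cp, cq, cr, hnd, hcom, hprod⟩ := five L ha hc.hx hc.hy hc.xa hc.ya hc.xy hc.cax hc.cay hc.cxy
  obtain ⟨A⟩ := L.chart a ha
  have hz := A.col_unique cp cq cr hc (List.nodup_cons.mp hnd).2 zx zy
  obtain ⟨B⟩ := L.chart x hc.hx
  have mem : ∀ w ∈ [a, x, y, p, q, r], w ∈ D := by
    intro w hw
    simp only [List.mem_cons, List.not_mem_nil, or_false] at hw
    rcases hw with rfl | rfl | rfl | rfl | rfl | rfl
    exacts [ha, hc.hx, hc.hy, cp.hz, cq.hz, cr.hz]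
  have five' : ∀ s t, List.Perm [a, x, y, p, q, r] [x, y, z, a, s, t] → Col D x y z a := by
    intro s t hperm
    have nd := hperm.nodup_iff.mp hnd
    have hsub : ∀ w ∈ [y, z, a, s, t], w ∈ [a, x, y, p, q, r] := fun w hw =>
      hperm.mem_iff.mpr (List.mem_cons_of_mem _ hw)
    refine (B.col_of_prod (fun w hw => ⟨mem w (hsub w hw), fun e => (List.nodup_cons.mp nd).1 (e ▸ hw),
      hcom x (by simp) w (hsub w hw)⟩) (fun w hw w' hw' => hcom w (hsub w hw) w' (hsub w' hw'))
      (List.nodup_cons.mp nd).2 (Or.inr ?_)).1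
    have hp : [a, x, y, p, q, r].prod = [x, y, z, a, s, t].prod :=
      hperm.prod_eq' (List.pairwise_of_forall_mem_list fun u hu v hv => hcom u hu v hv)
    simp only [List.prod_cons, List.prod_nil, mul_one] at hp
    rw [show x * (y * (p * (q * r))) = a by simpa [mul_assoc] using hprod, A.hsq] at hp
    calc y * z * a * s * t = x * x * (y * (z * (a * (s * t)))) := by rw [B.hsq, one_mul]; simp only [mul_assoc]
      _ = x * (x * (y * (z * (a * (s * t))))) := mul_assoc _ _ _
      _ = x := by rw [← hp, mul_one]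
  have base : List.Perm [a, x, y, p, q, r] [x, y, p, a, q, r] :=
    (List.Perm.swap x a _).trans (((List.Perm.swap y a _).trans ((List.Perm.swap p a _).cons y)).cons x)
  simp only [List.mem_cons, List.not_mem_nil, or_false] at hz
  rcases hz with e | e | e <;> rw [e] at five' ⊢
  · exact five' q r base
  · refine five' p r (base.trans (((?_ : List.Perm [p, a, q, r] [q, a, p, r]).cons y).cons x))
    exact ((List.Perm.swap q a [r]).cons p).trans ((List.Perm.swap q p _).trans ((List.Perm.swap a p [r]).cons q))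
  · refine five' p q (base.trans (((?_ : List.Perm [p, a, q, r] [r, a, p, q]).cons y).cons x))
    exact (((List.Perm.swap r q []).cons a).cons p).trans (((List.Perm.swap r a [q]).cons p).trans
      ((List.Perm.swap r p _).trans ((List.Perm.swap a p [q]).cons r)))

/-- Three members commuting with two non-commuting members are never collinear. -/
theorem no_col (L : Local D hF) {a b x y z : G} (ha : a ∈ D) (hb : b ∈ D) (hc : Col D a x y z) (zx : z ≠ x)
    (zy : z ≠ y) (bx : Commute b x) (by' : Commute b y) (bz : Commute b z) : Commute a b :=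
  (hc.perm L ha zx zy).perp b hb bx.symm by'.symm bz.symm

/-- Six members with product one: any five are collinear from the sixth. -/
theorem six_col (L : Local D hF) {x y p q r s : G} (hm : ∀ w ∈ [x, y, p, q, r, s], w ∈ D)
    (hc : ∀ w ∈ [x, y, p, q, r, s], ∀ w' ∈ [x, y, p, q, r, s], Commute w w') (hnd : [x, y, p, q, r, s].Nodup)
    (hp : x * y * p * q * r * s = 1) : Col D x y p q ∧ Col D x y p r ∧ Col D x y p s := by
  obtain ⟨B⟩ := L.chart x (hm x (by simp))
  refine B.col_of_prod (fun w hw => ⟨hm w (List.mem_cons_of_mem _ hw), fun e => (List.nodup_cons.mp hnd).1 (e ▸ hw),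
    hc x (by simp) w (List.mem_cons_of_mem _ hw)⟩) (fun w hw w' hw' =>
    hc w (List.mem_cons_of_mem _ hw) w' (List.mem_cons_of_mem _ hw')) (List.nodup_cons.mp hnd).2 (Or.inr ?_)
  calc y * p * q * r * s = x * x * (y * p * q * r * s) := by rw [B.hsq, one_mul]
    _ = x * (x * y * p * q * r * s) := by simp only [mul_assoc]
    _ = x := by rw [hp, mul_one]

/-- Two sextets with product one sharing three members coincide. -/
theorem six_unique (L : Local D hF) {x y p q r s q' r' s' : G} (hm : ∀ w ∈ [x, y, p, q, r, s], w ∈ D)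
    (hc : ∀ w ∈ [x, y, p, q, r, s], ∀ w' ∈ [x, y, p, q, r, s], Commute w w') (hnd : [x, y, p, q, r, s].Nodup)
    (hp : x * y * p * q * r * s = 1) (hm' : ∀ w ∈ [x, y, p, q', r', s'], w ∈ D)
    (hc' : ∀ w ∈ [x, y, p, q', r', s'], ∀ w' ∈ [x, y, p, q', r', s'], Commute w w')
    (hnd' : [x, y, p, q', r', s'].Nodup) (hp' : x * y * p * q' * r' * s' = 1) : q' ∈ [q, r, s] := by
  obtain ⟨B⟩ := L.chart x (hm x (by simp))
  obtain ⟨c1, c2, c3⟩ := six_col L hm hc hnd hp
  obtain ⟨d1, -, -⟩ := six_col L hm' hc' hnd' hp'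
  have nd := (List.nodup_cons.mp hnd').2
  simp only [List.nodup_cons, List.mem_cons, List.not_mem_nil, or_false, not_or] at nd
  exact B.col_unique c1 c2 c3 d1 (List.nodup_cons.mp hnd).2 (fun e => nd.1.2.1 e.symm) (fun e => nd.2.1.1 e.symm)

end CfsgFi22Rec
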