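/-
Every perfect double cover of PSU(6, 2) is the centraliser of a transposition of Fi22.
-/
import Cfsg.Agent.Lib.Fi22Rec.Model
import Cfsg.Agent.Lib.CosetEnum.U62Mult.Main
import Cfsg.Agent.Lib.ThreeTrans.Exist.Type22

set_option autoImplicit false
set_option linter.unusedSectionVars false
set_option maxRecDepth 1000000

namespace CfsgFi22Rec

open Matrix Cfsg CfsgLib CfsgLib.UnitaryTransvection CfsgLib.UnitarySimple CfsgThreeTrans CfsgThreeTrans.M22
open CfsgLib.CosetEnum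

section Stem

variable {G : Type} [Group G] (p : ↥U62Mult.stabH →* G) (hsurj : Function.Surjective p) (hp : p U62Mult.aT = 1)
  (hG : commutator G = ⊤)
include hsurj hp hG

/-- A stem cover of full order maps onto every stem extension, over the quotient. -/
theorem cover_over {Γ : Type} [Group Γ] [Finite Γ] {π₀ : Γ →* G} (h₀ : IsStemExtension π₀)
    (hcard : Nat.card Γ = 110361968640) {E : Type} [Group E] [Finite E] {π : E →* G} (hπ : IsStemExtension π) :
    ∃ g : Γ →* E, Function.Surjective g ∧ ∀ v, π (g v) = π₀ v := by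
  obtain ⟨φ₀, e₀, m₀⟩ := U62Mult.onto_stem p hsurj hp hG h₀
  obtain ⟨φ, e, m⟩ := U62Mult.onto_stem p hsurj hp hG hπ
  obtain ⟨hfin, hle⟩ := U62Mult.card_derived
  haveI := hfin
  have heq : π₀.comp φ₀ = π.comp φ := MonoidHom.eq_of_eqOn_dense presU62.gen_closure (by
    rintro _ ⟨x, hx, rfl⟩
    exact (e₀ x hx).trans (e x hx).symm)
  set D := commutator presU62.Grp
  let ψ₀ : ↥D →* Γ := φ₀.comp D.subtype
  let ψ : ↥D →* E := φ.comp D.subtype
  have s₀ : Function.Surjective ψ₀ := by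
    rw [← MonoidHom.range_eq_top, MonoidHom.range_comp, Subgroup.range_subtype, m₀]
  have s : Function.Surjective ψ := by
    rw [← MonoidHom.range_eq_top, MonoidHom.range_comp, Subgroup.range_subtype, m]
  have hb : Function.Bijective ψ₀ := (Nat.bijective_iff_surjective_and_card _).mpr
    ⟨s₀, le_antisymm (by rw [hcard]; omega) (Nat.card_le_card_of_surjective _ s₀)⟩
  let ev : ↥D ≃* Γ := MulEquiv.ofBijective ψ₀ hb
  refine ⟨ψ.comp ev.symm.toMonoidHom, s.comp ev.symm.surjective, fun v => ?_⟩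
  obtain ⟨d, rfl⟩ := ev.surjective v
  show π (ψ (ev.symm (ev d))) = π₀ (ψ₀ d)
  rw [MulEquiv.symm_apply_apply]
  exact (DFunLike.congr_fun heq (d : presU62.Grp)).symm

end Stem

section Labels

/-- The three-two-two abelian group. -/
abbrev Z322 : Type := Multiplicative (ZMod 3 × ZMod 2 × ZMod 2)

/-- The first involution. -/
abbrev Z322.b : Z322 := Multiplicative.ofAdd (0, 1, 0)

/-- The second involution. -/
abbrev Z322.c : Z322 := Multiplicative.ofAdd (0, 0, 1)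

theorem Z322.gen : ∀ x : Z322, ∃ y : Z322, x = y * y ∨ x = y * y * Z322.b ∨ x = y * y * Z322.c ∨
    x = y * y * Z322.b * Z322.c := by decide +kernel

variable {G Γ : Type} [Group G] [Group Γ] (σ : Γ →* G) (ι : Z322 ≃* σ.ker)

theorem det_on_ker {E : Type} [Group E] {π : E →* G} (hsq : ∀ e, π e = 1 → e * e = 1) (g : Γ →* E)
    (hg : ∀ v, π (g v) = σ v) (x : Z322) : ∃ i j : Bool, g (ι x : Γ) =
      (if i then g (ι Z322.b : Γ) else 1) * (if j then g (ι Z322.c : Γ) else 1) ∧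
      ∀ {E' : Type} [Group E'] {π' : E' →* G}, (∀ e, π' e = 1 → e * e = 1) → ∀ g' : Γ →* E',
        (∀ v, π' (g' v) = σ v) → g' (ι x : Γ) =
          (if i then g' (ι Z322.b : Γ) else 1) * (if j then g' (ι Z322.c : Γ) else 1) := by
  obtain ⟨y, hy⟩ := Z322.gen x
  have sq : ∀ {E' : Type} [Group E'] {π' : E' →* G}, (∀ e, π' e = 1 → e * e = 1) → ∀ g' : Γ →* E',
      (∀ v, π' (g' v) = σ v) → g' (ι (y * y) : Γ) = 1 := fun {E'} _ {π'} hsq' g' hg' => by
    rw [map_mul, Subgroup.coe_mul, map_mul]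
    exact hsq' _ (by rw [hg']; exact (ι y).2)
  have sq' : ∀ {E' : Type} [Group E'] {π' : E' →* G}, (∀ e, π' e = 1 → e * e = 1) → ∀ g' : Γ →* E',
      (∀ v, π' (g' v) = σ v) → g' (ι y : Γ) * g' (ι y : Γ) = 1 := fun {E'} _ {π'} hsq' g' hg' =>
    hsq' _ (by rw [hg']; exact (ι y).2)
  rcases hy with rfl | rfl | rfl | rfl
  · exact ⟨false, false, by simp [sq' hsq g hg], fun hsq' g' hg' => by simp [sq' hsq' g' hg']⟩
  · exact ⟨true, false, by rw [map_mul, Subgroup.coe_mul, map_mul, sq hsq g hg]; simp,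
      fun hsq' g' hg' => by rw [map_mul, Subgroup.coe_mul, map_mul, sq hsq' g' hg']; simp⟩
  · exact ⟨false, true, by rw [map_mul, Subgroup.coe_mul, map_mul, sq hsq g hg]; simp,
      fun hsq' g' hg' => by rw [map_mul, Subgroup.coe_mul, map_mul, sq hsq' g' hg']; simp⟩
  · exact ⟨true, true, by rw [map_mul, Subgroup.coe_mul, map_mul, map_mul, Subgroup.coe_mul, map_mul, sq hsq g hg]; simp,
      fun hsq' g' hg' => by rw [map_mul, Subgroup.coe_mul, map_mul, map_mul, Subgroup.coe_mul, map_mul, sq hsq' g' hg']; simp⟩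

variable {E E' : Type} [Group E] [Group E'] {π : E →* G} {π' : E' →* G} {z : E} {z' : E'}

/-- Which of the two involutions die. -/
noncomputable def label (g : Γ →* E) : Bool × Bool :=
  haveI := Classical.dec (g (ι Z322.b : Γ) = 1)
  haveI := Classical.dec (g (ι Z322.c : Γ) = 1)
  (decide (g (ι Z322.b : Γ) = 1), decide (g (ι Z322.c : Γ) = 1))

theorem label_ne (hk : ∀ e, π e = 1 → e = 1 ∨ e = z) (hz : π z = 1) (z1 : z ≠ 1) (hsq : z * z = 1) (g : Γ →* E)
    (hg : ∀ v, π (g v) = σ v) (gs : Function.Surjective g) : label σ ι g ≠ (true, true) := by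
  intro e
  simp only [label, Prod.mk.injEq, decide_eq_true_eq] at e
  obtain ⟨v, hv⟩ := gs z
  obtain ⟨x, hx⟩ := ι.surjective ⟨v, show σ v = 1 by rw [← hg, hv, hz]⟩
  obtain ⟨i, j, h, -⟩ := det_on_ker σ ι (π := π) (fun e he => by rcases hk e he with rfl | rfl <;> simp [hsq]) g hg x
  rw [hx, e.1, e.2] at h
  refine z1 ?_
  rw [← hv]
  simpa using h

/-- Extensions with the same label are isomorphic over the quotient. -/
theorem iso_of_label (hk : ∀ e, π e = 1 → e = 1 ∨ e = z) (hsq : z * z = 1)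
    (hk' : ∀ e, π' e = 1 → e = 1 ∨ e = z') (hsq' : z' * z' = 1) (g : Γ →* E)
    (hg : ∀ v, π (g v) = σ v) (gs : Function.Surjective g) (g' : Γ →* E') (hg' : ∀ v, π' (g' v) = σ v)
    (gs' : Function.Surjective g') (hl : label σ ι g = label σ ι g') :
    ∃ β : E ≃* E', ∀ e, π' (β e) = π e := by
  simp only [label, Prod.mk.injEq, decide_eq_decide] at hl
  have q : ∀ e, π e = 1 → e * e = 1 := fun e he => by rcases hk e he with rfl | rfl <;> simp [hsq]
  have q' : ∀ e, π' e = 1 → e * e = 1 := fun e he => by rcases hk' e he with rfl | rfl <;> simp [hsq']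
  have key : ∀ v, σ v = 1 → (g v = 1 ↔ g' v = 1) := fun v hv => by
    obtain ⟨x, hx⟩ := ι.surjective ⟨v, hv⟩
    obtain ⟨i, j, h, h'⟩ := det_on_ker σ ι (π := π) q g hg x
    have h'' := h' q' g' hg'
    rw [hx] at h h''
    have b : ∀ y, g (ι y : Γ) = 1 ∨ g (ι y : Γ) = z := fun y => hk _ (by rw [hg]; exact (ι y).2)
    have b' : ∀ y, g' (ι y : Γ) = 1 ∨ g' (ι y : Γ) = z' := fun y => hk' _ (by rw [hg']; exact (ι y).2)
    rw [show g v = _ from h, show g' v = _ from h'']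
    cases i <;> cases j
    · simp
    · simpa using hl.2
    · simpa using hl.1
    · by_cases e1 : g (ι Z322.b : Γ) = 1
      · simp [e1, hl.1.mp e1, hl.2]
      · by_cases e2 : g (ι Z322.c : Γ) = 1
        · simp [e2, hl.2.mp e2, hl.1]
        · have f1 : ¬ g' (ι Z322.b : Γ) = 1 := fun f => e1 (hl.1.mpr f)
          have f2 : ¬ g' (ι Z322.c : Γ) = 1 := fun f => e2 (hl.2.mpr f)
          simp [(b Z322.b).resolve_left e1, (b Z322.c).resolve_left e2, (b' Z322.b).resolve_left f1,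
            (b' Z322.c).resolve_left f2, hsq, hsq']
  have ke : g.ker = g'.ker := by
    ext v
    simp only [MonoidHom.mem_ker]
    refine ⟨fun e => (key v ?_).mp e, fun e => (key v ?_).mpr e⟩
    · rw [← hg, e, map_one]
    · rw [← hg', e, map_one]
  refine ⟨(QuotientGroup.quotientKerEquivOfSurjective g gs).symm.trans
    ((QuotientGroup.quotientMulEquivOfEq ke).trans (QuotientGroup.quotientKerEquivOfSurjective g' gs')), fun e => ?_⟩
  obtain ⟨v, rfl⟩ := gs e
  rw [hg]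
  show π' (_) = _
  rw [MulEquiv.trans_apply, show (QuotientGroup.quotientKerEquivOfSurjective g gs).symm (g v) = (v : Γ ⧸ g.ker) from
    (MulEquiv.symm_apply_eq _).mpr rfl]
  exact hg' v

end Labels

section Conj

variable {F : Type} [Field F] [Fintype F] [DecidableEq F] {hF : Fintype.card F = 2 ^ 2}

local notation "h" => Cfsg.hermForm 6 F 2
local notation "π" => QuotientGroup.mk' (Subgroup.center (Cfsg.SU 6 F 2))

/-- Conjugation of `SU` by a unitary matrix. -/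
def conjSU (γ : Cfsg.GU 6 F 2) : Cfsg.SU 6 F 2 →* Cfsg.SU 6 F 2 where
  toFun k := ⟨⟨γ.1.1 * mat k * γ⁻¹.1.1, by
      rw [det_mul, det_mul, show (mat k).det = 1 from k.1.2, mul_one, ← det_mul,
        show γ.1.1 * γ⁻¹.1.1 = 1 from by exact_mod_cast γ.1.mul_inv, det_one]⟩, fun u v => by
    show h ((γ.1.1 * mat k * γ⁻¹.1.1) *ᵥ u) ((γ.1.1 * mat k * γ⁻¹.1.1) *ᵥ v) = h u v
    rw [← mulVec_mulVec, ← mulVec_mulVec, ← mulVec_mulVec, ← mulVec_mulVec, gu_h, su_h, gu_h]⟩
  map_one' := su_ext fun x => by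
    show (γ.1.1 * mat 1 * γ⁻¹.1.1) *ᵥ x = _
    rw [mat_one, mul_one, ← mulVec_mulVec, gu_inv_mulVec, one_mulVec]
  map_mul' k l := su_ext fun x => by
    show (γ.1.1 * mat (k * l) * γ⁻¹.1.1) *ᵥ x = ((γ.1.1 * mat k * γ⁻¹.1.1) * (γ.1.1 * mat l * γ⁻¹.1.1)) *ᵥ x
    have e : γ⁻¹.1.1 * γ.1.1 = 1 := by exact_mod_cast γ.1.inv_mul
    rw [mat_mul, show (γ.1.1 * mat k * γ⁻¹.1.1) * (γ.1.1 * mat l * γ⁻¹.1.1) =
      γ.1.1 * mat k * (γ⁻¹.1.1 * γ.1.1) * mat l * γ⁻¹.1.1 by simp only [Matrix.mul_assoc], e, Matrix.mul_one]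
    simp only [Matrix.mul_assoc]

theorem conjSU_mulVec (γ : Cfsg.GU 6 F 2) (k : Cfsg.SU 6 F 2) (x : Fin 6 → F) :
    mat (conjSU γ k) *ᵥ x = γ.1.1 *ᵥ (mat k *ᵥ (γ⁻¹.1.1 *ᵥ x)) := by
  show (γ.1.1 * mat k * γ⁻¹.1.1) *ᵥ x = _
  rw [← mulVec_mulVec, ← mulVec_mulVec]

theorem gu_mul_mulVec (γ δ : Cfsg.GU 6 F 2) (x : Fin 6 → F) :
    (γ * δ).1.1 *ᵥ x = γ.1.1 *ᵥ (δ.1.1 *ᵥ x) := (mulVec_mulVec x γ.1.1 δ.1.1).symm

theorem gu_one_mulVec (x : Fin 6 → F) : (1 : Cfsg.GU 6 F 2).1.1 *ᵥ x = x := one_mulVec x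

theorem conjSU_comp (γ δ : Cfsg.GU 6 F 2) (k : Cfsg.SU 6 F 2) : conjSU γ (conjSU δ k) = conjSU (γ * δ) k :=
  su_ext fun x => by simp only [conjSU_mulVec, _root_.mul_inv_rev, gu_mul_mulVec]

theorem conjSU_one (k : Cfsg.SU 6 F 2) : conjSU 1 k = k :=
  su_ext fun x => by rw [conjSU_mulVec, inv_one, gu_one_mulVec, gu_one_mulVec]

theorem conjSU_tu (γ : Cfsg.GU 6 F 2) {u : Fin 6 → F} (hu : h u u = 0) :
    conjSU γ (tu hF u) = tu hF (γ.1.1 *ᵥ u) := su_ext fun x => by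
  rw [conjSU_mulVec, tu_mulVec hF hu, tu_mulVec hF (by rw [gu_h]; exact hu), mulVec_add, mulVec_smul, gu_inv_mulVec,
    ← gu_h γ (γ⁻¹.1.1 *ᵥ x) u, gu_inv_mulVec]

/-- The induced automorphism of `PSU`. -/
def pconj (γ : Cfsg.GU 6 F 2) : Cfsg.PSU 6 F 2 →* Cfsg.PSU 6 F 2 :=
  QuotientGroup.map _ _ (conjSU γ) fun z hz => Subgroup.mem_center_iff.mpr fun g => by
    rw [show g = conjSU γ (conjSU γ⁻¹ g) by rw [conjSU_comp, mul_inv_cancel, conjSU_one], ← map_mul, ← map_mul,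
      Subgroup.mem_center_iff.mp hz]

theorem pconj_mk (γ : Cfsg.GU 6 F 2) (k : Cfsg.SU 6 F 2) : pconj γ (π k) = π (conjSU γ k) := rfl

theorem pconj_comp (γ δ : Cfsg.GU 6 F 2) (x : Cfsg.PSU 6 F 2) : pconj γ (pconj δ x) = pconj (γ * δ) x := by
  obtain ⟨k, rfl⟩ := QuotientGroup.mk'_surjective _ x
  rw [pconj_mk, pconj_mk, pconj_mk, conjSU_comp]

theorem pconj_one (x : Cfsg.PSU 6 F 2) : pconj 1 x = x := by
  obtain ⟨k, rfl⟩ := QuotientGroup.mk'_surjective _ x
  rw [pconj_mk, conjSU_one]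

theorem pconj_bij (γ : Cfsg.GU 6 F 2) : Function.Bijective (pconj γ) :=
  Function.bijective_iff_has_inverse.mpr ⟨pconj γ⁻¹, fun x => by rw [pconj_comp, inv_mul_cancel, pconj_one],
    fun x => by rw [pconj_comp, mul_inv_cancel, pconj_one]⟩

variable {G : Type*} [Group G] {D : Set G} {a : G}

/-- The automorphism of `PSU` from scaling one frame vector of a sextet does not lift. -/
theorem no_lift (L : Local D hF) (A : Chart D hF a) (fr : Frame3 hF) {w : F} (w0 : w ≠ 0) (w1 : w ≠ 1)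
    (hp : A.sixProd fr w = 1) (γ : Cfsg.GU 6 F 2) {μ : F} (μ1 : μ ≠ 1) (μ0 : μ ≠ 0)
    (hX : γ.1.1 *ᵥ fr.X = μ • fr.X) (hY : γ.1.1 *ᵥ fr.Y = fr.Y) (hZ : γ.1.1 *ᵥ fr.Z = fr.Z) :
    ¬ ∃ β : ↥(Subgroup.centralizer ({a} : Set G)) ≃* ↥(Subgroup.centralizer ({a} : Set G)),
      ∀ x, A.ψ (β x) = pconj γ (A.ψ x) := by
  rintro ⟨β, hβ⟩
  set aC : ↥(Subgroup.centralizer ({a} : Set G)) := ⟨a, mem_cent.mpr (Commute.refl a)⟩
  have move : ∀ u u' : Iso F, γ.1.1 *ᵥ u.1 = u'.1 → β (A.pnt' u) = A.pnt' u' := fun u u' e => by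
    have he : A.ψ (β (A.pnt' u) * (A.pnt' u')⁻¹) = 1 := by
      rw [map_mul, map_inv, hβ, A.ψ_pnt, A.ψ_pnt, pconj_mk, conjSU_tu γ u.2.2, e, mul_inv_cancel]
    rcases A.ker' he with q | q
    · exact mul_inv_eq_one.mp (Subtype.ext q)
    · exfalso
      obtain ⟨g, ag, gg⟩ := root_one L A u'
      have e2 : β (A.pnt' u) = ⟨g, mem_cent.mpr ag⟩ * ⟨g, mem_cent.mpr ag⟩ := by
        rw [mul_inv_eq_iff_eq_mul.mp (show β (A.pnt' u) * (A.pnt' u')⁻¹ = aC from Subtype.ext q)]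
        refine Subtype.ext ?_
        show a * A.pnt u' = g * g
        rw [gg]
        exact (A.pnt_comm u').eq
      have e3 := congrArg β.symm e2
      rw [MulEquiv.symm_apply_apply, map_mul] at e3
      exact member_not_square L (A.pnt_mem u) (g := (β.symm ⟨g, mem_cent.mpr ag⟩ : G))
        (congrArg Subtype.val e3).symm
  let c : Fin 6 → Fin 3 → F := fun i => ![μ * sext w i 0, sext w i 1, sext w i 2]
  have cne : ∀ i, c i ≠ 0 := fun i e => sext_ne w i (by
    funext k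
    fin_cases k
    · exact (mul_eq_zero.mp (congrFun e 0)).resolve_left μ0
    · exact congrFun e 1
    · exact congrFun e 2)
  have mv : ∀ i, γ.1.1 *ᵥ (fr.ipt (sext w i)).1 = (fr.ipt (c i)).1 := fun i => by
    rw [fr.ipt_val (sext_ne w i), fr.ipt_val (cne i)]
    simp only [Frame3.vec, mulVec_add, mulVec_smul, hX, hY, hZ, smul_smul, c, Matrix.cons_val]
    rw [mul_comm]
  set S : Fin 6 → ↥(Subgroup.centralizer ({a} : Set G)) := fun i => A.pnt' (fr.ipt (sext w i))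
  set R : Fin 6 → G := fun i => A.pm fr (c i)
  have hS : S 0 * S 1 * S 2 * S 3 * S 4 * S 5 = 1 := Subtype.ext hp
  have hR : R 0 * R 1 * R 2 * R 3 * R 4 * R 5 = 1 := by
    have := congrArg β hS
    simp only [map_mul, map_one, S, move _ _ (mv _)] at this
    exact congrArg Subtype.val this
  have same : ∀ i, c i = (if i = 0 then μ else 1) • sext w i → R i = A.six fr w i := fun i e =>
    (A.pm_eq_iff fr (cne i) (sext_ne w i)).mpr ⟨_, e⟩
  have r0 : R 0 = A.six fr w 0 := same 0 (by funext k; fin_cases k <;> simp [c, sext])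
  have r1 : R 1 = A.six fr w 1 := same 1 (by funext k; fin_cases k <;> simp [c, sext])
  have r2 : R 2 = A.six fr w 2 := same 2 (by funext k; fin_cases k <;> simp [c, sext])
  have sinj := six_inj A fr w0 w1
  have rinj : ∀ i j, R i = R j → i = j := fun i j e => by
    obtain ⟨t, ht⟩ := (A.pm_eq_iff fr (cne i) (cne j)).mp e
    by_contra hij
    refine sext_sep (hF := hF) w0 w1 i j hij t ?_
    funext k
    fin_cases k
    · have := congrFun ht 0
      simp [c] at this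
      show sext w i 0 = (t • sext w j) 0
      rw [Pi.smul_apply, smul_eq_mul]
      exact mul_left_cancel₀ μ0 (by rw [this]; ring)
    · exact congrFun ht 1
    · exact congrFun ht 2
  have hq := six_unique L (x := A.six fr w 0) (y := A.six fr w 1) (p := A.six fr w 2) (q := A.six fr w 3)
    (r := A.six fr w 4) (s := A.six fr w 5) (q' := R 3) (r' := R 4) (s' := R 5)
    (by simp only [List.mem_cons, List.not_mem_nil, or_false]; rintro v (rfl|rfl|rfl|rfl|rfl|rfl) <;>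
      exact A.pm_mem fr _)
    (by
      simp only [List.mem_cons, List.not_mem_nil, or_false]
      rintro v (rfl|rfl|rfl|rfl|rfl|rfl) v' (rfl|rfl|rfl|rfl|rfl|rfl) <;> exact A.pm_comm fr _ _)
    (by
      have : ([0, 1, 2, 3, 4, 5] : List (Fin 6)).Nodup := by decide
      exact this.map sinj)
    hp
    (by simp only [List.mem_cons, List.not_mem_nil, or_false]; rintro v (rfl|rfl|rfl|rfl|rfl|rfl) <;>
      exact A.pm_mem fr _)
    (by
      simp only [List.mem_cons, List.not_mem_nil, or_false]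
      rintro v (rfl|rfl|rfl|rfl|rfl|rfl) v' (rfl|rfl|rfl|rfl|rfl|rfl) <;> exact A.pm_comm fr _ _)
    (by
      rw [← r0, ← r1, ← r2]
      have : ([0, 1, 2, 3, 4, 5] : List (Fin 6)).Nodup := by decide
      exact this.map (fun i j e => rinj i j e))
    (by rw [← r0, ← r1, ← r2]; exact hR)
  simp only [List.mem_cons, List.not_mem_nil, or_false] at hq
  obtain ⟨zq, -, z0, z1, zw, -, -⟩ := omega_facts (hF := hF) w0 w1
  rcases hq with e | e | e <;> obtain ⟨t, ht⟩ := (A.pm_eq_iff fr (cne 3) (sext_ne w _)).mp e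
  all_goals
    have e0 := congrFun ht 0
    have e1 := congrFun ht 1
    have e2 := congrFun ht 2
    simp [c, sext] at e0 e1 e2
  · exact μ1 (by rw [e0, ← e1])
  · rw [← e0] at e1 e2
    exact zw (mul_left_cancel₀ μ0 (e2.symm.trans e1))
  · rw [← e0] at e1 e2
    exact zw (mul_left_cancel₀ μ0 (e1.symm.trans e2))

end Conj

section Fi22

/-- The transposition class of the presented Fi22. -/
abbrev DP : Set presFi22.Grp := conjugatesOf Fi22Class.ta

theorem local_pres : ∃ (K : Type) (_ : Field K) (_ : Fintype K) (_ : DecidableEq K) (hK : Fintype.card K = 2 ^ 2),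
    Local DP hK := by
  haveI := CfsgThreeTrans.Exist.finite22
  exact local_of_type Fi22Class.facts.2.1 CfsgThreeTrans.Exist.type22_pres

variable {F : Type} [Field F] [Fintype F] [DecidableEq F] {hF : Fintype.card F = 2 ^ 2}

include hF in
theorem psu_perfect : commutator (Cfsg.PSU 6 F 2) = ⊤ := by
  rw [commutator_def, ← Subgroup.map_top_of_surjective (QuotientGroup.mk' (Subgroup.center (Cfsg.SU 6 F 2)))
    (QuotientGroup.mk'_surjective _), ← Subgroup.map_commutator, ← commutator_def,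
    CfsgLib.UnitarySimple.perfect hF (by norm_num) (by omega)]

theorem pigeon : ∀ a b c d : Bool × Bool, b ≠ a → c ≠ a → c ≠ b → a ≠ (true, true) → b ≠ (true, true) →
    c ≠ (true, true) → d ≠ (true, true) → a = d ∨ b = d ∨ c = d := by
  intro a b c d
  rcases a with ⟨_ | _, _ | _⟩ <;> rcases b with ⟨_ | _, _ | _⟩ <;> simp_all <;> rcases c with ⟨_ | _, _ | _⟩ <;>
    simp_all <;> rcases d with ⟨_ | _, _ | _⟩ <;> simp_all

/-- Every perfect double cover of PSU(6, 2) is the centraliser of a transposition in Fi22. -/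
theorem cover_iso (L : Local DP hF) {C : Type} [Group C] [Finite C] (ψC : C →* Cfsg.PSU 6 F 2)
    (sC : Function.Surjective ψC) (dC : C) (d1 : dC ≠ 1) (d2 : dC * dC = 1)
    (kC : ∀ g, ψC g = 1 ↔ g = 1 ∨ g = dC) (pC : commutator C = ⊤) :
    ∃ θ : ↥(Subgroup.centralizer ({Fi22Class.ta} : Set presFi22.Grp)) ≃* C,
      ∀ x : ↥(Subgroup.centralizer ({Fi22Class.ta} : Set presFi22.Grp)),
        (x : presFi22.Grp) = Fi22Class.ta → θ x = dC := by
  classical
  haveI := CfsgThreeTrans.Exist.finite22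
  obtain ⟨A⟩ := L.chart Fi22Class.ta mem_conjugatesOf_self
  set H := Subgroup.centralizer ({Fi22Class.ta} : Set presFi22.Grp)
  set aH : ↥H := ⟨Fi22Class.ta, mem_cent.mpr (Commute.refl _)⟩ with haH
  have ah1 : aH ≠ 1 := fun e => A.hne (congrArg Subtype.val e)
  have ah2 : aH * aH = 1 := Subtype.ext A.hsq
  have kH : ∀ g, A.ψ g = 1 → g = 1 ∨ g = aH := fun g hg =>
    (A.ker' hg).imp (fun q => Subtype.ext q) fun q => Subtype.ext q
  -- the universal cover
  have eH : U62Mult.stabH = H := Fi22Class.facts.1.symm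
  set p := A.ψ.comp (MulEquiv.subgroupCongr eH).toMonoidHom
  have hp : p U62Mult.aT = 1 := (A.ker _).mpr (Or.inr U62Mult.ta_eq.symm)
  have hps : Function.Surjective p := A.sur.comp (MulEquiv.subgroupCongr eH).surjective
  obtain ⟨⟨Γ, _, _, σ, hσ, ⟨ι'⟩⟩, -⟩ := U62Mult.psu_multiplier (F := F) (hF.trans (by norm_num))
  set ι := ι'.symm
  have hΓ : Nat.card Γ = 110361968640 := by
    rw [← σ.ker.card_mul_index, Subgroup.index_ker, MonoidHom.range_eq_top.mpr hσ.1, Subgroup.card_top,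
      CfsgThreeTrans.M22.card_psu_eq hF, Nat.card_congr ι'.toEquiv, Nat.card_eq_fintype_card,
      show Fintype.card (Multiplicative (ZMod 3 × ZMod 2 × ZMod 2)) = 12 from rfl]
  have stem : ∀ {E : Type} [Group E] (φ : E →* Cfsg.PSU 6 F 2) (z : E), Function.Surjective φ →
      (∀ e, φ e = 1 → e = 1 ∨ e = z) → z * z = 1 → (∀ e, Commute z e) → commutator E = ⊤ →
      IsStemExtension φ := fun φ z s k q cz pe => ⟨s, fun e he => Subgroup.mem_center_iff.mpr fun g => by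
        rcases k e he with rfl | rfl
        exacts [by rw [one_mul, mul_one], (cz g).eq.symm], by rw [pe]; exact le_top⟩
  -- a sextet
  have v0 : (![1, 1, 0, 0, 0, 0] : Fin 6 → F) ≠ 0 := fun e => by simpa using congrFun e 0
  obtain ⟨v, huv, hli⟩ := exists_second (hF := hF) (⟨![1, 1, 0, 0, 0, 0], v0, by
    simp [Cfsg.hermForm, Fin.sum_univ_six, CfsgThreeTrans.M22.add_self hF]⟩ : Iso F)
  obtain ⟨fr, w, w0, w1, hsix, -, -⟩ := exists_sextet L A _ v (fun e => by
    obtain ⟨c, hc⟩ := (A.pnt_eq_iff _ _).mp e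
    exact one_ne_zero (hli 1 (-c) (by rw [one_smul, hc, neg_smul, add_neg_cancel])).1) huv
  obtain ⟨g, hg⟩ := IsotropicCount.herm_trans (n := 6) hF (k := 3)
    ⟨![fr.X, fr.Y, fr.Z], fr.ind, fun i j => by
      fin_cases i <;> fin_cases j <;> simp [fr.hX, fr.hY, fr.hZ, fr.hXY, fr.hXZ, fr.hYZ, swap_zero hF fr.hXY,
        swap_zero hF fr.hXZ, swap_zero hF fr.hYZ]⟩
    ⟨![w • fr.X, fr.Y, fr.Z], (li_three hF).mpr fun p q r e => by
      have := (li_three hF).mp fr.ind (p * w) q r (by rw [← smul_smul]; exact e)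
      exact ⟨(mul_eq_zero.mp this.1).resolve_right w0, this.2⟩, fun i j => by
      fin_cases i <;> fin_cases j <;> simp [h_smul_left, h_smul_right hF, fr.hX, fr.hY, fr.hZ, fr.hXY, fr.hXZ, fr.hYZ,
        swap_zero hF fr.hXY, swap_zero hF fr.hXZ, swap_zero hF fr.hYZ]⟩
  have gX : g.1.1 *ᵥ fr.X = w • fr.X := hg 0
  have gY : g.1.1 *ᵥ fr.Y = fr.Y := hg 1
  have gZ : g.1.1 *ᵥ fr.Z = fr.Z := hg 2
  obtain ⟨-, -, z0, z1, -, -, -⟩ := omega_facts (hF := hF) w0 w1
  -- the four extensions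
  let φ : Cfsg.GU 6 F 2 → (↥H →* Cfsg.PSU 6 F 2) := fun γ => (pconj γ).comp A.ψ
  have sφ : ∀ γ, Function.Surjective (φ γ) := fun γ => (pconj_bij γ).2.comp A.sur
  have kφ : ∀ γ e, φ γ e = 1 → e = 1 ∨ e = aH := fun γ e he =>
    kH e ((pconj_bij γ).1 (he.trans (map_one _).symm))
  have stH : ∀ γ, IsStemExtension (φ γ) := fun γ =>
    stem (φ γ) aH (sφ γ) (kφ γ) ah2 (fun e => (A.comm_base e).symm) A.perfect
  have dcen : ∀ e, Commute dC e := fun e => by
    have hψ : ψC (e * dC * e⁻¹) = 1 := by rw [map_mul, map_mul, map_inv, (kC dC).mpr (Or.inr rfl)]; group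
    rcases (kC _).mp hψ with q | q
    · exact absurd (conj_eq_one_iff.mp q) d1
    · exact (mul_inv_eq_iff_eq_mul.mp q).symm
  have hstemC : IsStemExtension ψC := stem ψC dC sC (fun e he => (kC e).mp he) d2 dcen pC
  have cov := fun {E : Type} [Group E] [Finite E] {π : E →* Cfsg.PSU 6 F 2} (hπ : IsStemExtension π) =>
    cover_over p hps hp (psu_perfect (hF := hF)) hσ hΓ hπ
  choose cg cgs cgo using fun γ => cov (stH γ)
  obtain ⟨gC, gCs, gCo⟩ := cov hstemC
  let l : Cfsg.GU 6 F 2 → Bool × Bool := fun γ => label σ ι (cg γ)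
  have lne : ∀ γ, l γ ≠ (true, true) := fun γ =>
    label_ne σ ι (kφ γ) (show pconj γ (A.ψ aH) = 1 by rw [(A.ker aH).mpr (Or.inr rfl), map_one]) ah1 ah2
      (cg γ) (cgo γ) (cgs γ)
  have diff : ∀ γ δ (μ : F), μ ≠ 1 → μ ≠ 0 → (δ⁻¹ * γ).1.1 *ᵥ fr.X = μ • fr.X → (δ⁻¹ * γ).1.1 *ᵥ fr.Y = fr.Y →
      (δ⁻¹ * γ).1.1 *ᵥ fr.Z = fr.Z → l γ ≠ l δ := fun γ δ μ μ1 μ0 eX eY eZ e => by
    obtain ⟨β, hβ⟩ := iso_of_label σ ι (kφ γ) ah2 (kφ δ) ah2 (cg γ) (cgo γ) (cgs γ) (cg δ) (cgo δ) (cgs δ) e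
    refine no_lift L A fr w0 w1 hsix (δ⁻¹ * γ) μ1 μ0 eX eY eZ ⟨β, fun x => ?_⟩
    have := congrArg (pconj δ⁻¹) (hβ x)
    simp only [φ, MonoidHom.comp_apply, pconj_comp, inv_mul_cancel, pconj_one] at this
    exact this
  have d01 : l g ≠ l 1 := diff g 1 w w1 w0 (by rw [inv_one, one_mul]; exact gX) (by rw [inv_one, one_mul]; exact gY)
    (by rw [inv_one, one_mul]; exact gZ)
  have d02 : l (g * g) ≠ l 1 := diff (g * g) 1 (w * w) z1 z0
    (by rw [inv_one, one_mul, gu_mul_mulVec, gX, mulVec_smul, gX, smul_smul])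
    (by rw [inv_one, one_mul, gu_mul_mulVec, gY, gY]) (by rw [inv_one, one_mul, gu_mul_mulVec, gZ, gZ])
  have d12 : l (g * g) ≠ l g := diff (g * g) g w w1 w0 (by rw [inv_mul_cancel_left]; exact gX)
    (by rw [inv_mul_cancel_left]; exact gY) (by rw [inv_mul_cancel_left]; exact gZ)
  have hC := label_ne σ ι (fun e he => (kC e).mp he) ((kC dC).mpr (Or.inr rfl)) d1 d2 gC gCo gCs
  have finish : ∀ γ, l γ = label σ ι gC → ∃ θ : ↥H ≃* C, ∀ x : ↥H, (x : presFi22.Grp) = Fi22Class.ta → θ x = dC :=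
    fun γ e => by
    obtain ⟨β, hβ⟩ := iso_of_label σ ι (kφ γ) ah2 (fun e he => (kC e).mp he) d2 (cg γ) (cgo γ) (cgs γ) gC gCo gCs e
    refine ⟨β, fun x hx => ?_⟩
    rcases (kC (β x)).mp (by rw [hβ x]; show pconj γ (A.ψ x) = 1; rw [(A.ker x).mpr (Or.inr hx), map_one]) with q | q
    · rw [MulEquiv.map_eq_one_iff] at q
      exact absurd ((congrArg Subtype.val q).symm.trans hx).symm A.hne
    · exact q
  rcases pigeon (l 1) (l g) (l (g * g)) (label σ ι gC) d01 d02 d12 (lne _) (lne _) (lne _) hC with e | e | e <;>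
    exact finish _ e

end Fi22

end CfsgFi22Rec
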