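/-
The fusion of the central involution in a centraliser modelled on Fi22.
-/
import Cfsg.Agent.Lib.Fi22Rec.Cover
import Cfsg.Agent.Lib.ThreeTrans.M22.InvolClasses

set_option autoImplicit false
set_option linter.unusedSectionVars false
set_option maxHeartbeats 4000000

namespace CfsgFi22Rec

open Matrix Cfsg CfsgLib CfsgLib.UnitaryTransvection CfsgLib.UnitarySimple CfsgThreeTrans CfsgThreeTrans.M22
open CfsgLib.CosetEnum

section Short

universe u

variable {G : Type u} [Group G] [Finite G] {D : Set G}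

/-- An involution commuting with a member is a product of at most three members commuting with it. -/
theorem short_list (hD : IsThreeTranspositionClass D) (h22 : IsOfTypeM22 G D) {x e : G} (hx : x * x = 1)
    (he : e ∈ D) (hc : Commute e x) : ∃ l : List G, l.length ≤ 3 ∧ l.Nodup ∧ (∀ p ∈ l, p ∈ D) ∧
      (∀ p ∈ l, ∀ q ∈ l, Commute p q) ∧ x = l.prod ∧ ∀ p ∈ l, Commute e p := by
  classical
  have hG : IsThreeTranspositionGroup D := ⟨hD.1, fun g d hd => cls_conj hD g hd, hD.2.2⟩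
  have hp := M22.primitive hD h22
  obtain ⟨t, htD, h3, h2, K, iK, iK', iKd, hK, ⟨A⟩⟩ := M22.exists_full hG hp h22
  obtain ⟨l, l1, l2, l3, l4, rfl⟩ := M22.short_invol hG hp htD h3 h2 h22 A hx
  exact ⟨l, l1, l2, l3, l4, rfl, M22.commute_members hD.1 l1 l2 l3 l4 he hc⟩

end Short

variable {F : Type} [Field F] [Fintype F] [DecidableEq F] {hF : Fintype.card F = 2 ^ 2}

local notation "h" => Cfsg.hermForm 6 F 2
local notation "π" => QuotientGroup.mk' (Subgroup.center (Cfsg.SU 6 F 2))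

/-- The transposition of the presented Fi22. -/
local notation "a₀" => Fi22Class.ta

/-- The involutions of the centraliser of a transposition in Fi22. -/
theorem classify (L : Local DP hF) (A : Chart DP hF a₀) {x : presFi22.Grp} (hx : x * x = 1) (hc : Commute a₀ x)
    (x1 : x ≠ 1) (xa : x ≠ a₀) : (∃ u, x = A.pnt u) ∨ (∃ g, Commute a₀ g ∧ g * g = x) ∨
      ∃ fr : Frame3 hF, x = A.tprod fr Tri.std := by
  haveI := CfsgThreeTrans.Exist.finite22
  obtain ⟨l, hlen, hnd, hm, hcm, rfl, hce⟩ :=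
    short_list Fi22Class.facts.2.1 CfsgThreeTrans.Exist.type22_pres hx mem_conjugatesOf_self hc
  have sq1 : ∀ u, ∃ g, Commute a₀ g ∧ g * g = a₀ * A.pnt u := fun u => by
    obtain ⟨g, g1, g2⟩ := root_one L A u
    exact ⟨g, g1, g2.trans (A.pnt_comm u).eq.symm⟩
  have sq2 : ∀ p q, p ∈ DP → q ∈ DP → Commute a₀ p → Commute a₀ q → Commute p q → p ≠ q → p ≠ a₀ → q ≠ a₀ →
      (∃ g, Commute a₀ g ∧ g * g = p * q) ∧ ∃ g, Commute a₀ g ∧ g * g = a₀ * (p * q) := by
    intro p q hp hq cp cq cpq pq pa qa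
    obtain ⟨u, rfl⟩ := A.pnt_surj hp pa cp
    obtain ⟨v, rfl⟩ := A.pnt_surj hq qa cq
    have huv := (A.pnt_comm_iff u v).mp cpq
    obtain ⟨g, g1, -, -, g2⟩ := root_pair L A u v pq huv (Or.inl rfl)
    obtain ⟨g', g1', -, -, g2'⟩ := root_pair L A u v pq huv (Or.inr rfl)
    exact ⟨⟨g, g1, g2⟩, g', g1', g2'.trans ((A.pnt_comm u).mul_right (A.pnt_comm v)).eq.symm⟩
  match l with
  | [] => exact absurd List.prod_nil x1
  | [p] =>
    simp only [List.prod_cons, List.prod_nil, mul_one] at xa ⊢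
    obtain ⟨u, hu⟩ := A.pnt_surj (hm p (by simp)) xa (hce p (by simp))
    exact Or.inl ⟨u, hu.symm⟩
  | [p, q] =>
    simp only [List.prod_cons, List.prod_nil, mul_one] at xa ⊢
    have pq : p ≠ q := by simpa using hnd
    right; left
    by_cases pa : p = a₀
    · obtain ⟨u, rfl⟩ := A.pnt_surj (hm q (by simp)) (fun e => pq (pa.trans e.symm)) (hce q (by simp))
      rw [pa]
      exact sq1 u
    by_cases qa : q = a₀
    · obtain ⟨u, rfl⟩ := A.pnt_surj (hm p (by simp)) pa (hce p (by simp))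
      rw [qa, ← (A.pnt_comm u).eq]
      exact sq1 u
    exact (sq2 p q (hm p (by simp)) (hm q (by simp)) (hce p (by simp)) (hce q (by simp))
      (hcm p (by simp) q (by simp)) pq pa qa).1
  | [p, q, r] =>
    simp only [List.prod_cons, List.prod_nil, mul_one] at xa ⊢
    simp only [List.nodup_cons, List.mem_cons, List.not_mem_nil, or_false, not_or, List.nodup_nil, and_true,
      not_false_iff] at hnd
    obtain ⟨⟨pq, pr⟩, qr⟩ := hnd
    have mp := hm p (by simp); have mq := hm q (by simp); have mr := hm r (by simp)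
    have ep := hce p (by simp); have eq' := hce q (by simp); have er := hce r (by simp)
    have cpq := hcm p (by simp) q (by simp)
    have cpr := hcm p (by simp) r (by simp)
    have cqr := hcm q (by simp) r (by simp)
    by_cases pa : p = a₀
    · right; left
      subst pa
      exact (sq2 q r mq mr eq' er cqr qr (Ne.symm pq) (Ne.symm pr)).2
    by_cases qa : q = a₀
    · right; left
      subst qa
      rw [← mul_assoc, cpq.eq, mul_assoc]
      exact (sq2 p r mp mr ep er cpr pr pa (Ne.symm qr)).2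
    by_cases ra : r = a₀
    · right; left
      subst ra
      rw [← cqr.eq.symm, ← mul_assoc, cpr.eq, mul_assoc]
      exact (sq2 p q mp mq ep eq' cpq pq pa qa).2
    obtain ⟨P, rfl⟩ := A.pnt_surj mp pa ep
    obtain ⟨Q, rfl⟩ := A.pnt_surj mq qa eq'
    obtain ⟨R, rfl⟩ := A.pnt_surj mr ra er
    have hPQ := (A.pnt_comm_iff P Q).mp cpq
    have hPR := (A.pnt_comm_iff P R).mp cpr
    have hQR := (A.pnt_comm_iff Q R).mp cqr
    by_cases col : ∃ c d : F, R.1 = c • P.1 + d • Q.1
    · right; left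
      have cR := (A.col_iff pq hPQ hPR hQR).mpr col
      obtain ⟨p', q', r', cp', cq', cr', nd5, com5, prod5⟩ :=
        five L A.mem mp mq (A.pnt_ne P) (A.pnt_ne Q) pq ep eq' cpq
      have hmem := A.col_unique cp' cq' cr' cR (List.nodup_cons.mp nd5).2 (Ne.symm pr) (Ne.symm qr)
      simp only [List.nodup_cons, List.mem_cons, List.not_mem_nil, or_false, not_or, List.nodup_nil, and_true,
        not_false_iff] at nd5
      obtain ⟨⟨-, -, n_p, n_q, n_r⟩, -, -, ⟨npq, npr⟩, nqr⟩ := nd5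
      have prod5' : A.pnt P * (A.pnt Q * (p' * (q' * r'))) = a₀ := by simpa [mul_assoc] using prod5
      have key : ∀ s t, s ∈ DP → t ∈ DP → Commute a₀ s → Commute a₀ t → Commute s t → s ≠ t → s ≠ a₀ → t ≠ a₀ →
          A.pnt P * (A.pnt Q * (A.pnt R * (s * t))) = a₀ →
          ∃ g, Commute a₀ g ∧ g * g = A.pnt P * (A.pnt Q * A.pnt R) := by
        intro s t hs ht cs ct cst st sa ta' e
        obtain ⟨g, g1, g2⟩ := (sq2 s t hs ht cs ct cst st sa ta').2
        refine ⟨g, g1, g2.trans ?_⟩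
        have ss : s * s = 1 := (L.mem_one hs).1
        have tt : t * t = 1 := (L.mem_one ht).1
        have st2 : s * t * (s * t) = 1 := by
          calc s * t * (s * t) = s * (t * s) * t := by simp only [mul_assoc]
            _ = s * (s * t) * t := by rw [cst.eq]
            _ = s * s * (t * t) := by simp only [mul_assoc]
            _ = 1 := by rw [ss, tt, one_mul]
        calc a₀ * (s * t) = A.pnt P * (A.pnt Q * (A.pnt R * (s * t * (s * t)))) := by
              conv_lhs => rw [← e]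
              simp only [mul_assoc]
          _ = _ := by rw [st2, mul_one]
      have c5 : ∀ z ∈ [A.pnt P, A.pnt Q, p', q', r'], ∀ z' ∈ [A.pnt P, A.pnt Q, p', q', r'], Commute z z' :=
        fun z hz z' hz' => com5 z (by simp only [List.mem_cons] at hz ⊢; tauto) z' (by simp only [List.mem_cons] at hz' ⊢; tauto)
      simp only [List.mem_cons, List.not_mem_nil, or_false] at hmem
      rcases hmem with e | e | e
      · exact key q' r' cq'.hz cr'.hz cq'.caz cr'.caz (c5 _ (by simp) _ (by simp)) nqr (Ne.symm n_q) (Ne.symm n_r)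
          (by rw [e]; exact prod5')
      · refine key p' r' cp'.hz cr'.hz cp'.caz cr'.caz (c5 _ (by simp) _ (by simp)) npr (Ne.symm n_p) (Ne.symm n_r) ?_
        rw [e, ← mul_assoc q', (c5 q' (by simp) p' (by simp)).eq, mul_assoc]
        exact prod5'
      · refine key p' q' cp'.hz cq'.hz cp'.caz cq'.caz (c5 _ (by simp) _ (by simp)) npq (Ne.symm n_p) (Ne.symm n_q) ?_
        rw [e, ((c5 r' (by simp) p' (by simp)).mul_right (c5 r' (by simp) q' (by simp))).eq, mul_assoc]
        exact prod5'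
    · right; right
      push Not at col
      let fr : Frame3 hF :=
        { X := P.1, Y := Q.1, Z := R.1, hX := P.2.2, hY := Q.2.2, hZ := R.2.2, hXY := hPQ, hXZ := hPR, hYZ := hQR
          ind := A.li_of_not_span pq col }
      have e : ∀ (b : Fin 3 → F) (U : Iso F), b ≠ 0 → fr.vec b = U.1 → A.pnt U = A.pm fr b := fun b U hb e =>
        (A.pnt_eq_iff _ _).mpr ⟨1, by rw [fr.ipt_val hb, one_smul, e]⟩
      refine ⟨fr, ?_⟩
      rw [e Tri.std.b1 P Tri.std.ne.1 (by simp [Frame3.vec, Tri.std, fr]),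
        e Tri.std.b2 Q Tri.std.ne.2.1 (by simp [Frame3.vec, Tri.std, fr]),
        e Tri.std.b3 R Tri.std.ne.2.2 (by simp [Frame3.vec, Tri.std, fr]), Chart.tprod, mul_assoc]
  | _ :: _ :: _ :: _ :: _ => simp only [List.length_cons] at hlen; omega

/-- A group with a centraliser modelled on that of a transposition in Fi22. -/
structure Model (G : Type) [Group G] (hF : Fintype.card F = 2 ^ 2) where
  d : G
  hd1 : d ≠ 1
  L : Local DP hF
  A : Chart DP hF a₀
  θ : ↥(Subgroup.centralizer ({a₀} : Set presFi22.Grp)) ≃* ↥(Subgroup.centralizer ({d} : Set G))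
  hθ : (θ ⟨a₀, mem_cent.mpr (Commute.refl _)⟩ : G) = d

namespace Model

variable {G : Type} [Group G] (M : Model G hF)

/-- The map into the group. -/
noncomputable def e : ↥(Subgroup.centralizer ({a₀} : Set presFi22.Grp)) →* G :=
  (Subgroup.centralizer ({M.d} : Set G)).subtype.comp M.θ.toMonoidHom

theorem e_inj : Function.Injective M.e := Subtype.val_injective.comp M.θ.injective

theorem e_comm (x : ↥(Subgroup.centralizer ({a₀} : Set presFi22.Grp))) : Commute M.d (M.e x) := mem_cent.mp (M.θ x).2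

theorem e_surj {g : G} (hg : Commute M.d g) : ∃ x, M.e x = g :=
  ⟨M.θ.symm ⟨g, mem_cent.mpr hg⟩, congrArg Subtype.val (M.θ.apply_symm_apply _)⟩

theorem e_base : M.e ⟨a₀, mem_cent.mpr (Commute.refl _)⟩ = M.d := M.hθ

theorem d_sq : M.d * M.d = 1 := by
  rw [← M.e_base, ← map_mul, ← map_one M.e]
  exact congrArg M.e (Subtype.ext M.A.hsq)

/-- The images of the other transpositions. -/
def TT : Set G := {y | ∃ u, y = M.e (M.A.pnt' u)}

theorem class_no_square {y g : G} (hy : y ∈ conjugatesOf M.d) : g * g ≠ y := fun e => by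
  obtain ⟨k, rfl⟩ := isConj_iff.mp hy
  have hk : k⁻¹ * g * k * (k⁻¹ * g * k) = M.d := by
    rw [show k⁻¹ * g * k * (k⁻¹ * g * k) = k⁻¹ * (g * g) * k by group, e]; group
  obtain ⟨q, hq⟩ := M.e_surj (g := k⁻¹ * g * k) (by
    show M.d * _ = _ * M.d
    rw [← hk, mul_assoc])
  rw [← hq, ← map_mul, ← M.e_base] at hk
  exact M.A.not_square_self (mem_cent.mp q.2) (congrArg Subtype.val (M.e_inj hk))

theorem mem_conj {y : G} (hy : y ∈ conjugatesOf M.d) (g : G) : g * y * g⁻¹ ∈ conjugatesOf M.d := by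
  obtain ⟨k, rfl⟩ := isConj_iff.mp hy
  exact isConj_iff.mpr ⟨g * k, by group⟩

theorem class_sq {y : G} (hy : y ∈ conjugatesOf M.d) : y * y = 1 ∧ y ≠ 1 := by
  obtain ⟨k, rfl⟩ := isConj_iff.mp hy
  refine ⟨by rw [show k * M.d * k⁻¹ * (k * M.d * k⁻¹) = k * (M.d * M.d) * k⁻¹ by group, M.d_sq]; group, fun e => ?_⟩
  exact M.hd1 (conj_eq_one_iff.mp e)

/-- A member of the class in the centraliser: its type. -/
theorem class_cases {y : G} (hy : y ∈ conjugatesOf M.d) (hc : Commute M.d y) (hne : y ≠ M.d) :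
    y ∈ M.TT ∨ ∃ (fr : Frame3 hF) (x : ↥(Subgroup.centralizer ({a₀} : Set presFi22.Grp))),
      M.e x = y ∧ (x : presFi22.Grp) = M.A.tprod fr Tri.std := by
  obtain ⟨x, rfl⟩ := M.e_surj hc
  have xx : x * x = 1 := M.e_inj (by rw [map_mul, (M.class_sq hy).1, map_one])
  rcases classify M.L M.A (congrArg Subtype.val xx) (mem_cent.mp x.2)
      (fun e => (M.class_sq hy).2 (by rw [show x = 1 from Subtype.ext e, map_one]))
      (fun e => hne (by rw [← M.e_base]; exact congrArg M.e (Subtype.ext e))) with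
    ⟨u, hu⟩ | ⟨g, g1, g2⟩ | ⟨fr, hfr⟩
  · exact Or.inl ⟨u, congrArg M.e (Subtype.ext hu)⟩
  · exfalso
    refine M.class_no_square hy (g := M.e ⟨g, mem_cent.mpr g1⟩) ?_
    rw [← map_mul]
    exact congrArg M.e (Subtype.ext g2)
  · exact Or.inr ⟨fr, x, rfl, hfr⟩

/-- A member adjacent to the central involution is the image of a transposition. -/
theorem adj_base {z g : G} (hz : z ∈ conjugatesOf M.d) (hne : z ≠ M.d) (hc : Commute M.d z) (hg : Commute M.d g)
    (hgg : g * g = M.d * z) : z ∈ M.TT := by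
  rcases M.class_cases hz hc hne with q | ⟨fr, x, rfl, hx⟩
  · exact q
  exfalso
  obtain ⟨q, rfl⟩ := M.e_surj hg
  rw [← M.e_base, ← map_mul, ← map_mul] at hgg
  have e1 : M.A.ψ (q * q) = M.A.ψ x := by
    rw [M.e_inj hgg, map_mul, (M.A.ker _).mpr (Or.inr rfl), one_mul]
  have ex : x = M.A.pnt' (fr.ipt Tri.std.b1) * M.A.pnt' (fr.ipt Tri.std.b2) * M.A.pnt' (fr.ipt Tri.std.b3) :=
    Subtype.ext hx
  obtain ⟨k, hk⟩ := QuotientGroup.mk'_surjective _ (M.A.ψ q)
  rw [map_mul, ← hk, ex, map_mul, map_mul, M.A.ψ_pnt, M.A.ψ_pnt, M.A.ψ_pnt, fr.ipt_val Tri.std.ne.1,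
    fr.ipt_val Tri.std.ne.2.1, fr.ipt_val Tri.std.ne.2.2, ← map_mul, ← map_mul, ← map_mul] at e1
  simp [Frame3.vec, Tri.std] at e1
  exact rank_three_no_square hF fr.hX fr.hY fr.hZ fr.hXY fr.hXZ fr.hYZ fr.ind k (by simpa using e1)

/-- Adjacency. -/
def Adj (y z : G) : Prop := y = z ∨ ∃ g : G, Commute g y ∧ Commute g z ∧ g * g = y * z

theorem adj_trans {x y z : G} (hx : x ∈ conjugatesOf M.d) (hy : y ∈ conjugatesOf M.d) (hz : z ∈ conjugatesOf M.d)
    (cxy : Commute x y) (cxz : Commute x z) (cyz : Commute y z) (h1 : Adj x y) (h2 : Adj y z) : Adj x z := by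
  rcases h1 with rfl | ⟨g, g1, g2, g3⟩
  · exact h2
  rcases h2 with rfl | ⟨k, k1, k2, k3⟩
  · exact Or.inr ⟨g, g1, g2, g3⟩
  by_cases exz : x = z
  · exact Or.inl exz
  by_cases exy : x = y
  · exact Or.inr ⟨k, exy ▸ k1, k2, exy ▸ k3⟩
  by_cases eyz : y = z
  · exact Or.inr ⟨g, g1, eyz ▸ g2, eyz ▸ g3⟩
  right
  obtain ⟨c, hc⟩ := isConj_iff.mp hy
  set φ := MulAut.conj c with hφ
  have hd : φ M.d = y := hc
  have back : ∀ q, q ∈ conjugatesOf M.d → φ.symm q ∈ conjugatesOf M.d := fun q hq => by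
    simpa [hφ] using M.mem_conj hq c⁻¹
  have hdy : φ.symm y = M.d := by rw [← hd, MulEquiv.symm_apply_apply]
  have key : ∀ q s, q ∈ conjugatesOf M.d → q ≠ y → Commute q y → Commute s y → s * s = y * q →
      φ.symm q ∈ M.TT := by
    intro q s hq hne cq cs e
    refine M.adj_base (g := φ.symm s) (back q hq) (fun e' => hne ?_) ?_ ?_ ?_
    · rw [← hd, ← e', MulEquiv.apply_symm_apply]
    · rw [← hdy]; exact (cq.symm).map φ.symm.toMonoidHom
    · rw [← hdy]; exact (cs.symm).map φ.symm.toMonoidHom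
    · rw [← hdy, ← map_mul, ← map_mul, e]
  obtain ⟨u, hu⟩ := key x g hx exy cxy g2 (by rw [g3, cxy.eq])
  obtain ⟨v, hv⟩ := key z k hz (Ne.symm eyz) cyz.symm k1 k3
  have huv : M.A.pnt u ≠ M.A.pnt v := fun e' => exz (φ.symm.injective (by
    rw [hu, hv]; exact congrArg M.e (Subtype.ext e')))
  have cuv : Commute (M.A.pnt u) (M.A.pnt v) := by
    have c0 : Commute (φ.symm x) (φ.symm z) := cxz.map φ.symm.toMonoidHom
    rw [hu, hv] at c0
    have := M.e_inj (show M.e (M.A.pnt' u * M.A.pnt' v) = M.e (M.A.pnt' v * M.A.pnt' u) by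
      rw [map_mul, map_mul]; exact c0.eq)
    exact congrArg Subtype.val this
  obtain ⟨s, s1, s2, s3, s4⟩ := root_pair M.L M.A u v huv ((M.A.pnt_comm_iff u v).mp cuv) (Or.inl rfl)
  set s' : ↥(Subgroup.centralizer ({a₀} : Set presFi22.Grp)) := ⟨s, mem_cent.mpr s1⟩
  refine ⟨φ (M.e s'), ?_, ?_, ?_⟩
  · rw [show x = φ (M.e (M.A.pnt' u)) by rw [← hu, MulEquiv.apply_symm_apply]]
    exact ((show Commute s' (M.A.pnt' u) from Subtype.ext s2.eq).map M.e).map φ.toMonoidHom
  · rw [show z = φ (M.e (M.A.pnt' v)) by rw [← hv, MulEquiv.apply_symm_apply]]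
    exact ((show Commute s' (M.A.pnt' v) from Subtype.ext s3.eq).map M.e).map φ.toMonoidHom
  · rw [← map_mul, ← map_mul, show s' * s' = M.A.pnt' u * M.A.pnt' v from Subtype.ext s4, map_mul, ← hu, ← hv,
      map_mul, MulEquiv.apply_symm_apply, MulEquiv.apply_symm_apply]

variable (fr : Frame3 hF)

/-- The image of a triple. -/
noncomputable def tri (T : Tri F) : G := M.e ⟨M.A.tprod fr T, mem_cent.mpr (tprod_base M.A fr T)⟩

theorem tri_eq {T T' : Tri F} (e : M.A.tprod fr T = M.A.tprod fr T') : M.tri fr T = M.tri fr T' :=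
  congrArg M.e (Subtype.ext e)

theorem tri_comm (T T' : Tri F) : Commute (M.tri fr T) (M.tri fr T') :=
  (show Commute (⟨_, mem_cent.mpr (tprod_base M.A fr T)⟩ : ↥(Subgroup.centralizer ({a₀} : Set presFi22.Grp))) ⟨_, _⟩
    from Subtype.ext (tprod_comm M.A fr T T').eq).map M.e

theorem tri_step (T : Tri F) {w : F} (hw : w * w ≠ w) {T0 : G} (h0 : T0 ∈ conjugatesOf M.d)
    (hc0 : ∀ T', Commute T0 (M.tri fr T')) (hT : M.tri fr T ∈ conjugatesOf M.d) (hA : Adj T0 (M.tri fr T)) :
    M.tri fr (T.next w hw) ∈ conjugatesOf M.d ∧ Adj T0 (M.tri fr (T.next w hw)) := by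
  obtain ⟨g, m, ag, am, mm, gT, gg, hm⟩ := step M.A fr M.L T hw
  set g' : ↥(Subgroup.centralizer ({a₀} : Set presFi22.Grp)) := ⟨g, mem_cent.mpr ag⟩
  set m' : ↥(Subgroup.centralizer ({a₀} : Set presFi22.Grp)) := ⟨m, mem_cent.mpr am⟩
  have hmem : M.tri fr (T.next w hw) ∈ conjugatesOf M.d := by
    have := M.mem_conj hT (M.e m')
    have mi : (M.e m')⁻¹ = M.e m' := inv_eq_of_mul_eq_one_right (by
      rw [← map_mul, show m' * m' = 1 from Subtype.ext mm, map_one])
    rw [mi, Model.tri, ← map_mul, ← map_mul] at this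
    unfold Model.tri
    convert this using 2
    exact Subtype.ext hm.symm
  refine ⟨hmem, M.adj_trans h0 hT hmem (hc0 _) (hc0 _) (M.tri_comm fr _ _) hA (Or.inr ?_)⟩
  have gt : Commute (M.e g') (M.tri fr T) :=
    (show Commute g' ⟨_, mem_cent.mpr (tprod_base M.A fr T)⟩ from Subtype.ext gT.eq).map M.e
  have e2 : M.e g' * M.e g' = M.tri fr T * M.tri fr (T.next w hw) := by
    unfold Model.tri
    rw [← map_mul, ← map_mul]
    exact congrArg M.e (Subtype.ext gg)
  refine ⟨M.e g', gt, ?_, e2⟩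
  have e3 : M.tri fr (T.next w hw) = (M.tri fr T)⁻¹ * (M.e g' * M.e g') := by rw [e2, inv_mul_cancel_left]
  rw [e3]
  exact gt.inv_right.mul_right ((Commute.refl _).mul_right (Commute.refl _))

include hF in
/-- No product of three independent transpositions is in the class. -/
theorem no_triple : M.tri fr Tri.std ∉ conjugatesOf M.d := by
  intro h0
  obtain ⟨w, w0, w1, -, -, -⟩ := exists_zeta hF
  obtain ⟨hq, hσ, z0, z1, zw, h3, -⟩ := omega_facts (hF := hF) w0 w1
  have h2 := two_zero hF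
  set T0 := M.tri fr Tri.std with hT0
  let P := fun T => M.tri fr T ∈ conjugatesOf M.d ∧ Adj T0 (M.tri fr T)
  have base : P Tri.std := ⟨h0, Or.inl rfl⟩
  have s012 : ∀ T l (hl : l ≠ 0), P T → P ((T.scale l hl).next w zw) := fun T l hl hT => by
    refine M.tri_step fr _ zw h0 (fun T' => M.tri_comm fr _ _) ?_ ?_ <;>
      rw [M.tri_eq fr (tprod_scale M.A fr T l hl)]
    exacts [hT.1, hT.2]
  have s021 : ∀ T l (hl : l ≠ 0), P T → P ((T.swap23.scale l hl).next w zw) := fun T l hl hT =>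
    s012 _ l hl ⟨by rw [M.tri_eq fr (tprod_swap23 M.A fr T)]; exact hT.1,
      by rw [M.tri_eq fr (tprod_swap23 M.A fr T)]; exact hT.2⟩
  have s120 : ∀ T l (hl : l ≠ 0), P T → P ((T.rot.scale l hl).next w zw) := fun T l hl hT =>
    s012 _ l hl ⟨by rw [M.tri_eq fr (tprod_rot M.A fr T)]; exact hT.1,
      by rw [M.tri_eq fr (tprod_rot M.A fr T)]; exact hT.2⟩
  have p1 := s012 _ w w0 (s012 _ 1 one_ne_zero (s012 _ 1 one_ne_zero base))
  have p2 := s021 _ 1 one_ne_zero (s021 _ (w * w) z0 (s012 _ (w * w) z0 base))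
  have p3 := s021 _ 1 one_ne_zero (s120 _ (w * w) z0 (s021 _ (w * w) z0 base))
  set E1 := ((((((Tri.std (F := F)).scale 1 one_ne_zero).next w zw).scale 1 one_ne_zero).next w zw).scale w w0).next w zw
  set E2 := (((((((Tri.std (F := F)).scale (w * w) z0).next w zw).swap23.scale (w * w) z0).next w zw).swap23).scale 1
    one_ne_zero).next w zw
  set E3 := (((((((Tri.std (F := F)).swap23.scale (w * w) z0).next w zw).rot.scale (w * w) z0).next w zw).swap23).scale 1
    one_ne_zero).next w zw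
  have v1 : E1.b1 = ![w * w, 1, 1] ∧ E1.b2 = ![0, 1, w * w] ∧ E1.b3 = ![w * w, 0, 1] := by
    refine ⟨?_, ?_, ?_⟩ <;> funext k <;> fin_cases k <;> simp [E1, Tri.std, Tri.scale, Tri.next] <;> grind
  have v2 : E2.b1 = ![1, w, 1] ∧ E2.b2 = ![w, 0, w] ∧ E2.b3 = ![0, w * w, w * w] := by
    refine ⟨?_, ?_, ?_⟩ <;> funext k <;> fin_cases k <;> simp [E2, Tri.std, Tri.scale, Tri.next, Tri.swap23] <;> grind
  have v3 : E3.b1 = ![0, 0, w * w] ∧ E3.b2 = ![1, 1, w * w] ∧ E3.b3 = ![w, 1, 1] := by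
    refine ⟨?_, ?_, ?_⟩ <;> funext k <;> fin_cases k <;>
      simp [E3, Tri.std, Tri.scale, Tri.next, Tri.swap23, Tri.rot] <;> grind
  set vs : Fin 9 → Fin 3 → F := ![E1.b1, E1.b2, E1.b3, E2.b1, E2.b2, E2.b3, E3.b1, E3.b2, E3.b3] with hvs
  have vne : ∀ i, vs i ≠ 0 := by
    intro i; fin_cases i
    exacts [E1.ne.1, E1.ne.2.1, E1.ne.2.2, E2.ne.1, E2.ne.2.1, E2.ne.2.2, E3.ne.1, E3.ne.2.1, E3.ne.2.2]
  have vsep : ∀ i j, ∀ c : F, vs i = c • vs j → i = j := by
    intro i j c e
    simp only [hvs, v1.1, v1.2.1, v1.2.2, v2.1, v2.2.1, v2.2.2, v3.1, v3.2.1, v3.2.2] at e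
    have e0 := congrFun e 0
    have e1 := congrFun e 1
    have e2 := congrFun e 2
    fin_cases i <;> fin_cases j <;> first
      | rfl
      | (simp at e0 e1 e2 <;> grind)
  have nd : ((List.finRange 9).map fun i => M.A.pm fr (vs i)).Nodup :=
    (List.nodup_finRange 9).map fun i j e => by
      obtain ⟨c, hc⟩ := (M.A.pm_eq_iff fr (vne i) (vne j)).mp e
      exact vsep i j c hc
  have tt := three_triples M.A fr M.L E1 E2 E3 (by simpa [List.finRange_succ, hvs] using nd)
    (fun i j => by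
      rw [v1.1, v1.2.1, v1.2.2, v2.1, v2.2.1, v2.2.2]
      fin_cases i <;> fin_cases j <;> simp [hσ, map_mul] <;> grind)
    (fun i j => by
      rw [v1.1, v1.2.1, v1.2.2, v3.1, v3.2.1, v3.2.2]
      fin_cases i <;> fin_cases j <;> simp [hσ, map_mul] <;> grind)
  have fin : ∀ T T', P T → P T' → M.A.tprod fr T * M.A.tprod fr T' = a₀ → False := by
    intro T T' hT hT' e
    have ee : M.tri fr T * M.tri fr T' = M.d := by
      unfold Model.tri
      rw [← map_mul, ← M.e_base]
      exact congrArg M.e (Subtype.ext e)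
    have flip : Adj (M.tri fr T) T0 := by
      rcases hT.2 with q | ⟨g, g1, g2, g3⟩
      · exact Or.inl q.symm
      · exact Or.inr ⟨g, g2, g1, g3.trans (M.tri_comm fr _ _).eq⟩
    rcases M.adj_trans hT.1 h0 hT'.1 (M.tri_comm fr _ _) (M.tri_comm fr _ _) (M.tri_comm fr _ _) flip hT'.2 with
      q | ⟨g, -, -, g3⟩
    · exact M.hd1 (by rw [← ee, q, (M.class_sq hT'.1).1])
    · exact M.class_no_square (g := g) (mem_conjugatesOf_self) (g3.trans ee)
  rcases tt with e | e
  exacts [fin _ _ p1 p2 e, fin _ _ p1 p3 e]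

/-- The class meets the centraliser in the central involution and the images of transpositions. -/
theorem class_TT {y : G} (hy : y ∈ conjugatesOf M.d) (hc : Commute M.d y) (hne : y ≠ M.d) : y ∈ M.TT := by
  rcases M.class_cases hy hc hne with q | ⟨fr, x, rfl, hx⟩
  · exact q
  · rw [show M.e x = M.tri fr Tri.std from congrArg M.e (Subtype.ext hx)] at hy
    exact absurd hy (M.no_triple fr)

/-- With one further member in the centraliser, all images of transpositions are members. -/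
theorem TT_class (hnwc : ∃ y ∈ conjugatesOf M.d, Commute M.d y ∧ y ≠ M.d) : M.TT ⊆ conjugatesOf M.d := by
  obtain ⟨y, hy, hc, hne⟩ := hnwc
  obtain ⟨u, rfl⟩ := M.class_TT hy hc hne
  rintro _ ⟨v, rfl⟩
  obtain ⟨k, hk⟩ := UnitaryTransConj.su_trans hF (by norm_num) u.2.1 v.2.1 u.2.2 v.2.2
  obtain ⟨q, hq⟩ := M.A.sur (π k)
  have e : q * M.A.pnt' u * q⁻¹ = M.A.pnt' v :=
    Subtype.ext (M.A.pnt_conj M.L q hq u v (c := 1) (by rw [hk, one_smul]))
  rw [← e, map_mul, map_mul, map_inv]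
  exact M.mem_conj hy _

end Model

end CfsgFi22Rec
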