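/-
Members by vectors, spans from commuting conditions, and eigenvectors.
-/
import Cfsg.Agent.Lib.Fi22Rec.Model

set_option autoImplicit false
set_option linter.unusedSectionVars false

namespace CfsgFi22Rec

open Matrix Cfsg CfsgLib CfsgLib.UnitaryTransvection CfsgLib.UnitarySimple CfsgThreeTrans.M22

variable {G : Type*} [Group G] {D : Set G}
variable {F : Type} [Field F] [Fintype F] [DecidableEq F] {hF : Fintype.card F = 2 ^ 2} {a : G}

local notation "h" => Cfsg.hermForm 6 F 2
local notation "π" => QuotientGroup.mk' (Subgroup.center (Cfsg.SU 6 F 2))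

/-- A nonzero isotropic vector. -/
def Good (x : Fin 6 → F) : Prop := x ≠ 0 ∧ h x x = 0

theorem Good.smul (hF : Fintype.card F = 2 ^ 2) {x : Fin 6 → F} (hx : Good x) {c : F} (hc : c ≠ 0) : Good (c • x) :=
  ⟨smul_ne_zero hc hx.1, by rw [h_smul_left, h_smul_right hF, hx.2, mul_zero, mul_zero]⟩

theorem refl_good (hF : Fintype.card F = 2 ^ 2) {x y : Fin 6 → F} (hx : Good x) (hy : Good y) :
    Good (x + h x y • y) := by
  constructor
  · intro e
    have := mat_ne_zero (tu hF y) hx.1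
    rw [tu_mulVec hF hy.2] at this
    exact this e
  · have := su_h (tu hF y) x x
    rwa [tu_mulVec hF hy.2, hx.2] at this

/-- Four vectors, the first three independent and the last outside their span. -/
theorem li_four (hF : Fintype.card F = 2 ^ 2) {u v w x : Fin 6 → F} (hind : LinearIndependent F ![u, v, w])
    (hx : ∀ p q r : F, x ≠ p • u + q • v + r • w) : LinearIndependent F ![u, v, w, x] := by
  rw [Fintype.linearIndependent_iff]
  intro c hc
  simp only [Fin.sum_univ_four, Matrix.cons_val_zero, Matrix.cons_val_one, Matrix.cons_val_two,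
    Matrix.cons_val_three, Matrix.tail_cons, Matrix.head_cons] at hc
  by_cases h3 : c 3 = 0
  · rw [h3, zero_smul, add_zero] at hc
    obtain ⟨a0, a1, a2⟩ := (li_three hF).mp hind _ _ _ hc
    intro i
    fin_cases i <;> assumption
  · exfalso
    refine hx (-((c 3)⁻¹ * c 0)) (-((c 3)⁻¹ * c 1)) (-((c 3)⁻¹ * c 2)) ?_
    have e := congrArg (fun z => (c 3)⁻¹ • z) hc
    simp only [smul_add, smul_smul, inv_mul_cancel₀ h3, one_smul, smul_zero] at e
    rw [neg_smul, neg_smul, neg_smul, ← neg_add, ← neg_add]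
    exact eq_neg_of_add_eq_zero_right e

namespace Chart

variable (A : Chart D hF a)

/-- The member at a vector. -/
noncomputable def mv (x : Fin 6 → F) : G :=
  haveI := Classical.dec (Good x)
  if hx : Good x then A.pnt ⟨x, hx⟩ else a

theorem mv_eq {x : Fin 6 → F} (hx : Good x) : A.mv x = A.pnt ⟨x, hx⟩ := dif_pos hx

theorem mv_mem {x : Fin 6 → F} (hx : Good x) : A.mv x ∈ D := by rw [A.mv_eq hx]; exact A.pnt_mem _

theorem mv_ne {x : Fin 6 → F} (hx : Good x) : A.mv x ≠ a := by rw [A.mv_eq hx]; exact A.pnt_ne _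

theorem mv_comm_base {x : Fin 6 → F} (hx : Good x) : Commute a (A.mv x) := by rw [A.mv_eq hx]; exact A.pnt_comm _

theorem mv_sq {x : Fin 6 → F} (hx : Good x) : A.mv x * A.mv x = 1 := by rw [A.mv_eq hx]; exact A.pnt_sq _

theorem mv_surj {y : G} (hy : y ∈ D) (hya : y ≠ a) (hc : Commute a y) : ∃ x, Good x ∧ A.mv x = y := by
  obtain ⟨u, rfl⟩ := A.pnt_surj hy hya hc
  exact ⟨u.1, u.2, A.mv_eq u.2⟩

theorem mv_comm_iff {x y : Fin 6 → F} (hx : Good x) (hy : Good y) : Commute (A.mv x) (A.mv y) ↔ h x y = 0 := by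
  rw [A.mv_eq hx, A.mv_eq hy, A.pnt_comm_iff]

theorem mv_eq_iff {x y : Fin 6 → F} (hx : Good x) (hy : Good y) : A.mv x = A.mv y ↔ ∃ c : F, x = c • y := by
  rw [A.mv_eq hx, A.mv_eq hy, A.pnt_eq_iff]

theorem mv_smul {x : Fin 6 → F} (hx : Good x) {c : F} (hc : c ≠ 0) : A.mv (c • x) = A.mv x :=
  (A.mv_eq_iff (hx.smul hF hc) hx).mpr ⟨c, rfl⟩

theorem mv_refl (L : Local D hF) {x y : Fin 6 → F} (hx : Good x) (hy : Good y) :
    A.mv y * A.mv x * A.mv y = A.mv (x + h x y • y) := by
  rw [A.mv_eq hx, A.mv_eq hy, A.mv_eq (refl_good hF hx hy)]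
  exact A.pnt_refl L _ _ _ (c := 1) (one_smul _ _).symm

theorem mv_col {x y z : Fin 6 → F} (hx : Good x) (hy : Good y) (hz : Good z) (hne : A.mv x ≠ A.mv y)
    (hxy : h x y = 0) (hxz : h x z = 0) (hyz : h y z = 0) :
    Col D a (A.mv x) (A.mv y) (A.mv z) ↔ ∃ c d : F, z = c • x + d • y := by
  rw [A.mv_eq hx, A.mv_eq hy] at hne
  rw [A.mv_eq hx, A.mv_eq hy, A.mv_eq hz]
  exact A.col_iff hne hxy hxz hyz

theorem mv_li_two {x y : Fin 6 → F} (hx : Good x) (hy : Good y) (hne : A.mv x ≠ A.mv y) :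
    ∀ c d : F, c • x + d • y = 0 → c = 0 ∧ d = 0 := by
  rw [A.mv_eq hx, A.mv_eq hy] at hne
  exact A.li_two hne

/-- A member commuting with whatever commutes with three independent members lies in their span. -/
theorem span_of_perp {x y z w : Fin 6 → F} (hx : Good x) (hy : Good y) (hz : Good z) (hw : Good w)
    (hwx : h w x = 0) (hwy : h w y = 0) (hwz : h w z = 0) (hind : LinearIndependent F ![x, y, z])
    (key : ∀ m ∈ D, Commute a m → Commute (A.mv x) m → Commute (A.mv y) m → Commute (A.mv z) m →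
      Commute (A.mv w) m) : ∃ p q r : F, w = p • x + q • y + r • z := by
  by_contra hcon
  push Not at hcon
  obtain ⟨m, mm, hm⟩ := exists_iso_vals hF (li_four hF hind hcon) ![0, 0, 0, 1] hw.2
    (fun i => by
      fin_cases i
      exacts [hwx, hwy, hwz, hw.2]) ![0, 0, 0, 1] (by simp [Fin.sum_univ_four])
    (by simp [Fin.sum_univ_four])
  have hmg : Good m := ⟨fun e => one_ne_zero (α := F) (by
    have := hm 3; simp [e, h_zero_left hF] at this), mm⟩
  have := key (A.mv m) (A.mv_mem hmg) (A.mv_comm_base hmg)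
    ((A.mv_comm_iff hx hmg).mpr (swap_zero hF (hm 0))) ((A.mv_comm_iff hy hmg).mpr (swap_zero hF (hm 1)))
    ((A.mv_comm_iff hz hmg).mpr (swap_zero hF (hm 2)))
  exact one_ne_zero (α := F) ((hm 3).symm.trans (swap_zero hF ((A.mv_comm_iff hw hmg).mp this)))

/-- An element commuting with a member fixes its point. -/
theorem eigen_mv (L : Local D hF) (g : ↥(Subgroup.centralizer ({a} : Set G))) {k : Cfsg.SU 6 F 2}
    (hk : A.ψ g = π k) {x : Fin 6 → F} (hx : Good x) (hc : Commute (g : G) (A.mv x)) :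
    ∃ l : F, mat k *ᵥ x = l • x := by
  rw [A.mv_eq hx] at hc
  let w : Iso F := ⟨mat k *ᵥ x, mat_ne_zero k hx.1, by rw [su_h]; exact hx.2⟩
  have := A.pnt_conj L g hk ⟨x, hx⟩ w (c := 1) (one_smul _ _).symm
  rw [hc.eq, mul_inv_cancel_right] at this
  obtain ⟨c, hc'⟩ := (A.pnt_eq_iff w ⟨x, hx⟩).mp this.symm
  exact ⟨c, hc'⟩

/-- An element whose matrix fixes the point of a member commutes with it. -/
theorem comm_of_eigen (L : Local D hF) (g : ↥(Subgroup.centralizer ({a} : Set G))) {k : Cfsg.SU 6 F 2}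
    (hk : A.ψ g = π k) {x : Fin 6 → F} (hx : Good x) {l : F} (he : mat k *ᵥ x = l • x) :
    Commute (g : G) (A.mv x) := by
  rw [A.mv_eq hx]
  exact mul_inv_eq_iff_eq_mul.mp (A.pnt_conj L g hk ⟨x, hx⟩ ⟨x, hx⟩ he)

end Chart

include hF in
/-- Eigenvectors that are not perpendicular have the same eigenvalue. -/
theorem eig_eq (k : Cfsg.SU 6 F 2) {x y : Fin 6 → F} {l m : F} (ex : mat k *ᵥ x = l • x) (ey : mat k *ᵥ y = m • y)
    (hne : h x y ≠ 0) : l = m := by
  have e := su_h k x y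
  rw [ex, ey, h_smul_left, h_smul_right hF, frob_eq hF] at e
  have hm : m ≠ 0 := fun q => hne (by rw [← e, q]; ring)
  have h1 : l * (m * m) = 1 := mul_right_cancel₀ hne (by rw [one_mul]; linear_combination e)
  have h3 : m * (m * m) = 1 := by have := cube hF hm; linear_combination this
  exact mul_right_cancel₀ (mul_ne_zero hm hm) (h1.trans h3.symm)

end CfsgFi22Rec
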