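/-
The presented Fi22 inside a group with a modelled centraliser, with the fusion it controls.
-/
import Cfsg.Agent.Lib.Fi22Rec.Fusion
import Cfsg.Agent.Lib.Fi22Rec.Nine
import Cfsg.Agent.Lib.ThreeTrans.M22.Unique.Iso

set_option autoImplicit false
set_option linter.unusedSectionVars false
set_option maxRecDepth 100000

namespace CfsgFi22Rec

open Matrix Cfsg CfsgLib CfsgLib.UnitaryTransvection CfsgLib.UnitarySimple CfsgThreeTrans CfsgThreeTrans.M22
open CfsgLib.CosetEnum
open CfsgThreeTrans.M22.Unique (Nine tau)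

variable {F : Type} [Field F] [Fintype F] [DecidableEq F] {hF : Fintype.card F = 2 ^ 2}

local notation "π" => QuotientGroup.mk' (Subgroup.center (Cfsg.SU 6 F 2))
local notation "a₀" => Fi22Class.ta

/-- A chart moved by an automorphism preserving the class. -/
theorem chart_map {G : Type*} [Group G] {D : Set G} {a b : G} (A : Chart D hF a) (φ : G ≃* G) (hab : φ a = b)
    (hφ : ∀ y, φ y ∈ D ↔ y ∈ D) : Nonempty (Chart D hF b) := by
  subst hab
  let τ : ↥(Subgroup.centralizer ({φ a} : Set G)) ≃* ↥(Subgroup.centralizer ({a} : Set G)) :=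
    { toFun := fun g => ⟨φ.symm g, mem_cent.mpr (by
        have := (mem_cent.mp g.2).map φ.symm.toMonoidHom
        simpa using this)⟩
      invFun := fun g => ⟨φ g, mem_cent.mpr ((mem_cent.mp g.2).map φ.toMonoidHom)⟩
      left_inv := fun g => Subtype.ext (φ.apply_symm_apply _)
      right_inv := fun g => Subtype.ext (φ.symm_apply_apply _)
      map_mul' := fun g g' => Subtype.ext (map_mul φ.symm _ _) }
  have hτ : ∀ g, (τ g : G) = φ.symm g := fun g => rfl
  have mD : ∀ g, (τ g : G) ∈ D ↔ (g : G) ∈ D := fun g => by rw [hτ, ← hφ, φ.apply_symm_apply]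
  have ma : ∀ g, (τ g : G) = a ↔ (g : G) = φ a := fun g => φ.symm_apply_eq
  exact ⟨{
    mem := (hφ a).mpr A.mem
    hne := fun e => A.hne (φ.injective (by rw [e, map_one]))
    hsq := by rw [← map_mul, A.hsq, map_one]
    ψ := A.ψ.comp τ.toMonoidHom
    sur := A.sur.comp τ.surjective
    ker := fun g => (A.ker (τ g)).trans (or_congr
      ⟨fun e => φ.symm.injective (by rw [map_one]; exact e), fun e => by rw [hτ, e, map_one]⟩ (ma g))
    perfect := by
      refine Subgroup.map_injective (f := τ.toMonoidHom) τ.injective ?_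
      rw [commutator_def, Subgroup.map_commutator, Subgroup.map_top_of_surjective _ τ.surjective, ← commutator_def,
        A.perfect]
    pt := fun y h1 h2 => A.pt (τ y) ((mD y).mpr h1) (fun e => h2 ((ma y).mp e))
    lift := fun u => by
      obtain ⟨y, h1, h2, h3⟩ := A.lift u
      refine ⟨τ.symm y, ?_, ?_, ?_⟩
      · rw [← mD, τ.apply_symm_apply]; exact h1
      · intro e; rw [← ma, τ.apply_symm_apply] at e; exact h2 e
      · show A.ψ (τ (τ.symm y)) = _
        rw [τ.apply_symm_apply]; exact h3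
    inj := fun y y' h1 h2 h1' h2' e => τ.injective (A.inj _ _ ((mD y).mpr h1) (fun q => h2 ((ma y).mp q))
      ((mD y').mpr h1') (fun q => h2' ((ma y').mp q)) e) }⟩

variable {G : Type} [Group G] (M : Model G hF)

/-- The hypothesis that the central involution is not weakly closed. -/
def Model.Nwc : Prop := ∃ y ∈ conjugatesOf M.d, Commute M.d y ∧ y ≠ M.d

/-- The class is local. -/
theorem Model.isLocal (hn : M.Nwc) : Local (conjugatesOf M.d) hF := by
  refine ⟨fun g x hx => M.mem_conj hx g, fun x hx => ?_⟩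
  have sd : ∀ y, M.e y = M.d ↔ (y : presFi22.Grp) = a₀ := fun y => by
    rw [← M.e_base]
    exact ⟨fun e => congrArg Subtype.val (M.e_inj e), fun e => congrArg M.e (Subtype.ext e)⟩
  have hval : ∀ g : ↥(Subgroup.centralizer ({M.d} : Set G)), M.e (M.θ.symm g) = (g : G) := fun g =>
    congrArg Subtype.val (M.θ.apply_symm_apply g)
  let C0 : Chart (conjugatesOf M.d) hF M.d :=
    { mem := mem_conjugatesOf_self
      hne := M.hd1
      hsq := M.d_sq
      ψ := M.A.ψ.comp M.θ.symm.toMonoidHom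
      sur := M.A.sur.comp M.θ.symm.surjective
      ker := fun g => (M.A.ker (M.θ.symm g)).trans (or_congr
        ⟨fun e => by rw [← hval g, show M.θ.symm g = 1 from Subtype.ext e, map_one],
          fun e => by rw [show g = 1 from Subtype.ext e, map_one]; rfl⟩
        ⟨fun e => by rw [← hval g]; exact (sd _).mpr e, fun e => (sd _).mp (by rw [hval]; exact e)⟩)
      perfect := by
        refine Subgroup.map_injective (f := M.θ.symm.toMonoidHom) M.θ.symm.injective ?_
        rw [commutator_def, Subgroup.map_commutator, Subgroup.map_top_of_surjective _ M.θ.symm.surjective,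
          ← commutator_def, M.A.perfect]
      pt := fun y h1 h2 => by
        obtain ⟨u, hu⟩ := M.class_TT h1 (mem_cent.mp y.2) h2
        refine ⟨u, ?_⟩
        show M.A.ψ (M.θ.symm y) = _
        rw [show M.θ.symm y = M.A.pnt' u from M.e_inj ((hval y).trans hu), M.A.ψ_pnt]
      lift := fun u => ⟨M.θ (M.A.pnt' u), M.TT_class hn ⟨u, rfl⟩, fun e => M.A.pnt_ne u ((sd _).mp e), by
        show M.A.ψ (M.θ.symm (M.θ (M.A.pnt' u))) = _
        rw [MulEquiv.symm_apply_apply, M.A.ψ_pnt]⟩
      inj := fun y y' h1 h2 h1' h2' e => by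
        obtain ⟨u, hu⟩ := M.class_TT h1 (mem_cent.mp y.2) h2
        obtain ⟨u', hu'⟩ := M.class_TT h1' (mem_cent.mp y'.2) h2'
        have k : M.θ.symm y = M.A.pnt' u := M.e_inj ((hval y).trans hu)
        have k' : M.θ.symm y' = M.A.pnt' u' := M.e_inj ((hval y').trans hu')
        refine M.θ.symm.injective ?_
        rw [k, k']
        refine M.A.inj _ _ (M.A.pnt_mem u) (M.A.pnt_ne u) (M.A.pnt_mem u') (M.A.pnt_ne u') ?_
        rw [← k, ← k']
        exact e }
  obtain ⟨c, hc⟩ := isConj_iff.mp hx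
  refine chart_map C0 (MulAut.conj c) hc fun y => ⟨fun h => ?_, fun h => M.mem_conj h c⟩
  simpa [mul_assoc] using M.mem_conj h c⁻¹

/-- An embedding of the presented group sending the transposition to the central involution. -/
structure Emb where
  hn : M.Nwc
  f : presFi22.Grp →* G
  inj : Function.Injective f
  base : f a₀ = M.d

/-- The presented group embeds. -/
theorem exists_emb [Finite G] (hn : M.Nwc) : Nonempty (Emb M) := by
  classical
  have L := M.isLocal hn
  obtain ⟨N0, h0, hsq, hord, htriv⟩ := exists_nine L (mem_conjugatesOf_self (a := M.d))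
  let N : Nine (Set.range N0.x) := ⟨N0.x, fun i => ⟨i, rfl⟩, N0.inj, N0.comm⟩
  have hD : IsThreeTranspositionSet (Set.range N0.x) := by
    refine ⟨?_, ?_⟩
    · rintro _ ⟨i, rfl⟩
      haveI : Fact (Nat.Prime 2) := ⟨Nat.prime_two⟩
      exact orderOf_eq_prime (by rw [pow_two]; exact hsq i) (L.mem_one (N0.mem i)).2
    · rintro _ ⟨i, rfl⟩ _ ⟨j, rfl⟩
      exact hord i j
  have hE7 := Unique.e7_word hD N htriv
  have hrel : ∀ w ∈ presY332.rels, (w.map (tau N)).prod = 1 := by
    intro w hw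
    rcases presY332.mem_rels hw with ⟨i, hi, j, hj, rfl⟩ | hw'
    · rw [prod_coxWord]
      exact Unique.tau_cox hD N hi hj (Unique.label22 i hi j hj)
    · simp only [List.mem_singleton] at hw'
      rw [hw']
      exact hE7
  obtain ⟨φ, hφ⟩ := presY332.exists_hom (tau N) (Unique.tau_sq hD N) hrel Unique.hid332
  have cen : ∀ k < 2, ((extraWFi22.getD k []).map (tau N)).prod = 1 := fun k hk =>
    htriv _ fun i _ _ => by
      have := Unique.words_central hD N φ hφ k hk i i.2
      rwa [tau, dif_pos i.2] at this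
  have hrel22 : ∀ w ∈ presFi22.rels, (w.map (tau N)).prod = 1 := by
    intro w hw
    rcases presFi22.mem_rels hw with ⟨i, hi, j, hj, rfl⟩ | hw'
    · rw [prod_coxWord]
      exact Unique.tau_cox hD N hi hj (Unique.label22 i hi j hj)
    · simp only [extraWFi22, List.mem_cons, List.not_mem_nil, or_false] at hw'
      rcases hw' with rfl | rfl | rfl
      exacts [cen 0 (by omega), cen 1 (by omega), hE7]
  obtain ⟨f, hf⟩ := presFi22.exists_hom (tau N) (Unique.tau_sq hD N) hrel22 Fi22Class.hid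
  haveI : IsSimpleGroup presFi22.Grp := Cfsg.Agent.S1696.result.1
  have hb : f a₀ = M.d := by
    rw [U62Mult.ta_eq, hf 0 (by decide), tau, dif_pos (by omega)]
    exact h0
  refine ⟨⟨hn, f, ?_, hb⟩⟩
  rw [← MonoidHom.ker_eq_bot_iff]
  refine (f.normal_ker.eq_bot_or_eq_top).resolve_right fun htop => M.hd1 ?_
  rw [← hb]
  exact MonoidHom.mem_ker.mp (htop ▸ Subgroup.mem_top _)

namespace Emb

variable {M} (E : Emb M)
include E

/-- The image. -/
def K : Subgroup G := E.f.range

/-- The image of the class. -/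
def DK : Set G := E.f '' DP

theorem loc : Local (conjugatesOf M.d) hF := M.isLocal E.hn

theorem d_mem : M.d ∈ E.DK := ⟨a₀, mem_conjugatesOf_self, E.base⟩

theorem DK_sub : E.DK ⊆ conjugatesOf M.d := by
  rintro _ ⟨x, hx, rfl⟩
  obtain ⟨u, rfl⟩ := isConj_iff.mp hx
  rw [map_mul, map_mul, map_inv, E.base]
  exact M.mem_conj mem_conjugatesOf_self _

theorem DK_K : ∀ x ∈ E.DK, x ∈ E.K := by rintro _ ⟨x, -, rfl⟩; exact ⟨x, rfl⟩

theorem DK_conj {g x : G} (hg : g ∈ E.K) (hx : x ∈ E.DK) : g * x * g⁻¹ ∈ E.DK := by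
  obtain ⟨u, rfl⟩ := hg
  obtain ⟨p, hp, rfl⟩ := hx
  obtain ⟨v, rfl⟩ := isConj_iff.mp hp
  exact ⟨u * (v * a₀ * v⁻¹) * u⁻¹, isConj_iff.mpr ⟨u * v, by group⟩, by simp⟩

theorem DK_trans {x x' : G} (hx : x ∈ E.DK) (hx' : x' ∈ E.DK) : ∃ g ∈ E.K, g * x * g⁻¹ = x' := by
  obtain ⟨p, hp, rfl⟩ := hx
  obtain ⟨p', hp', rfl⟩ := hx'
  obtain ⟨u, rfl⟩ := isConj_iff.mp hp
  obtain ⟨v, rfl⟩ := isConj_iff.mp hp'
  exact ⟨E.f (v * u⁻¹), ⟨_, rfl⟩, by rw [← map_inv, ← map_mul, ← map_mul]; congr 1; group⟩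

/-- The centraliser of the central involution is inside. -/
theorem cent_base [Finite G] {g : G} (hg : Commute M.d g) : g ∈ E.K := by
  haveI := CfsgThreeTrans.Exist.finite22
  let j : ↥(Subgroup.centralizer ({a₀} : Set presFi22.Grp)) → ↥(Subgroup.centralizer ({M.d} : Set G)) := fun x =>
    ⟨E.f x, mem_cent.mpr (by rw [← E.base]; exact (mem_cent.mp x.2).map E.f)⟩
  have hb : Function.Bijective j := (Nat.bijective_iff_injective_and_card _).mpr
    ⟨fun x x' e => Subtype.ext (E.inj (congrArg Subtype.val e)), Nat.card_congr M.θ.toEquiv⟩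
  obtain ⟨x, hx⟩ := hb.2 ⟨g, mem_cent.mpr hg⟩
  exact ⟨x, congrArg Subtype.val hx⟩

/-- The centraliser of any member of the image of the class is inside. -/
theorem cent_mem [Finite G] {x g : G} (hx : x ∈ E.DK) (hg : Commute x g) : g ∈ E.K := by
  obtain ⟨k, hk, rfl⟩ := E.DK_trans E.d_mem hx
  have : k⁻¹ * g * k ∈ E.K := E.cent_base (by
    show M.d * (k⁻¹ * g * k) = k⁻¹ * g * k * M.d
    calc M.d * (k⁻¹ * g * k) = k⁻¹ * (k * M.d * k⁻¹ * g) * k := by group
      _ = k⁻¹ * (g * (k * M.d * k⁻¹)) * k := by rw [hg.eq]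
      _ = _ := by group)
  have := E.K.mul_mem (E.K.mul_mem hk this) (E.K.inv_mem hk)
  simpa [mul_assoc] using this

/-- The class meets the image in the image of the class. -/
theorem class_inter [Finite G] {y : G} (hy : y ∈ conjugatesOf M.d) (hK : y ∈ E.K) : y ∈ E.DK := by
  classical
  haveI := CfsgThreeTrans.Exist.finite22
  -- the images of the transpositions commuting with the base
  set T : Set ↥(Subgroup.centralizer ({a₀} : Set presFi22.Grp)) := Set.range M.A.pnt' with hT
  have hTT : M.TT ⊆ E.DK := by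
    have hsub : (fun x : ↥(Subgroup.centralizer ({a₀} : Set presFi22.Grp)) => E.f x) '' T ⊆ M.TT := by
      rintro _ ⟨_, ⟨u, rfl⟩, rfl⟩
      refine M.class_TT (E.DK_sub ⟨_, M.A.pnt_mem u, rfl⟩) ?_ fun e => M.A.pnt_ne u (E.inj (e.trans E.base.symm))
      rw [← E.base]
      exact (M.A.pnt_comm u).map E.f
    have hTTe : M.TT = M.e '' T := by
      ext z
      constructor
      · rintro ⟨u, rfl⟩; exact ⟨_, ⟨u, rfl⟩, rfl⟩
      · rintro ⟨_, ⟨u, rfl⟩, rfl⟩; exact ⟨u, rfl⟩
    have hcard : M.TT.ncard ≤ ((fun x : ↥(Subgroup.centralizer ({a₀} : Set presFi22.Grp)) => E.f x) '' T).ncard := by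
      rw [hTTe, Set.ncard_image_of_injective _ M.e_inj, Set.ncard_image_of_injective _
        (fun x x' e => Subtype.ext (E.inj e))]
    rw [← Set.eq_of_subset_of_ncard_le hsub hcard (Set.toFinite _)]
    rintro _ ⟨_, ⟨u, rfl⟩, rfl⟩
    exact ⟨_, M.A.pnt_mem u, rfl⟩
  obtain ⟨x, rfl⟩ := hK
  have xx : x * x = 1 := E.inj (by rw [map_mul, map_one]; exact (M.class_sq hy).1)
  obtain ⟨K', iK, iK', iKd, hK', L'⟩ := local_pres
  -- some transposition commutes with it
  obtain ⟨p, hp, hcp⟩ : ∃ p ∈ DP, Commute p x := by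
    have hG : IsThreeTranspositionGroup DP :=
      ⟨Fi22Class.facts.2.1.1, fun g d hd => cls_conj Fi22Class.facts.2.1 g hd, Fi22Class.facts.2.1.2.2⟩
    have hp := M22.primitive Fi22Class.facts.2.1 CfsgThreeTrans.Exist.type22_pres
    obtain ⟨t, htD, h3, h2, K2, iK2, iK2', iK2d, hK2, ⟨B⟩⟩ :=
      M22.exists_full hG hp CfsgThreeTrans.Exist.type22_pres
    obtain ⟨p, hp', hx⟩ := M22.invol_fixes hG hp htD h3 h2 CfsgThreeTrans.Exist.type22_pres B xx
    exact ⟨p, hp', (mul_inv_eq_iff_eq_mul.mp hx).symm⟩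
  obtain ⟨u, rfl⟩ := isConj_iff.mp hp
  set k := E.f u with hk
  set y' := k⁻¹ * E.f x * k
  have hy' : y' ∈ conjugatesOf M.d := by
    have := M.mem_conj hy k⁻¹
    rwa [inv_inv] at this
  have hc : Commute M.d y' := by
    have c1 : Commute (k * M.d * k⁻¹) (E.f x) := by
      rw [← E.base, hk, ← map_inv, ← map_mul, ← map_mul]
      exact hcp.map E.f
    show M.d * (k⁻¹ * E.f x * k) = k⁻¹ * E.f x * k * M.d
    calc M.d * (k⁻¹ * E.f x * k) = k⁻¹ * (k * M.d * k⁻¹ * E.f x) * k := by group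
      _ = k⁻¹ * (E.f x * (k * M.d * k⁻¹)) * k := by rw [c1.eq]
      _ = _ := by group
  have mem' : y' ∈ E.DK := by
    by_cases e : y' = M.d
    · rw [e]; exact E.d_mem
    · exact hTT (M.class_TT hy' hc e)
  have := E.DK_conj (g := k) ⟨u, rfl⟩ mem'
  simpa [y', mul_assoc] using this

/-- An element carrying a member of the image to the image lies inside. -/
theorem mem_of_conj [Finite G] {g x : G} (hx : x ∈ E.DK) (h : g * x * g⁻¹ ∈ E.K) : g ∈ E.K := by
  have hx' := E.class_inter (M.mem_conj (E.DK_sub hx) g) h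
  obtain ⟨k, hk, he⟩ := E.DK_trans hx hx'
  have : k⁻¹ * g ∈ E.K := E.cent_mem hx (by
    show x * (k⁻¹ * g) = k⁻¹ * g * x
    calc x * (k⁻¹ * g) = k⁻¹ * (k * x * k⁻¹) * g := by group
      _ = k⁻¹ * (g * x * g⁻¹) * g := by rw [he]
      _ = _ := by group)
  have := E.K.mul_mem hk this
  rwa [mul_inv_cancel_left] at this

end Emb

end CfsgFi22Rec
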