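/-
The embedded Fi22 is the whole group.
-/
import Cfsg.Agent.Lib.Fi22Rec.Embed

set_option autoImplicit false
set_option linter.unusedSectionVars false
set_option maxRecDepth 100000

namespace CfsgFi22Rec

open Matrix Cfsg CfsgLib CfsgLib.UnitaryTransvection CfsgLib.UnitarySimple CfsgThreeTrans CfsgThreeTrans.M22
open CfsgLib.CosetEnum
open scoped commutatorElement

variable {F : Type} [Field F] [Fintype F] [DecidableEq F] {hF : Fintype.card F = 2 ^ 2}

local notation "h" => Cfsg.hermForm 6 F 2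
local notation "π" => QuotientGroup.mk' (Subgroup.center (Cfsg.SU 6 F 2))

section Local

variable {G : Type*} [Group G] {D : Set G} (L : Local D hF)
include L

theorem mul_mem_sq {p q : G} (hp : p ∈ D) (hq : q ∈ D) (hc : Commute p q) : p * q * (p * q) = 1 := by
  calc p * q * (p * q) = p * (q * p) * q := by simp only [mul_assoc]
    _ = p * p * (q * q) := by rw [hc.eq.symm]; simp only [mul_assoc]
    _ = 1 := by rw [(L.mem_one hp).1, (L.mem_one hq).1, one_mul]

/-- The product of three commuting members is no member. -/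
theorem triple_not_mem {a p q : G} (ha : a ∈ D) (hp : p ∈ D) (hq : q ∈ D) (pa : p ≠ a) (qa : q ≠ a) (pq : p ≠ q)
    (cp : Commute a p) (cq : Commute a q) (cpq : Commute p q) : a * (p * q) ∉ D := fun hm => by
  obtain ⟨A⟩ := L.chart a ha
  obtain ⟨u, rfl⟩ := A.pnt_surj hp pa cp
  obtain ⟨v, rfl⟩ := A.pnt_surj hq qa cq
  obtain ⟨g, -, -, -, hg⟩ := root_pair L A u v pq ((A.pnt_comm_iff u v).mp cpq) (Or.inr rfl)
  exact member_not_square L hm (hg.trans ((A.pnt_comm u).mul_right (A.pnt_comm v)).eq.symm)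

/-- The graph of members commuting with a member has diameter two. -/
theorem common_neighbour {p x y : G} (hp : p ∈ D) (hx : x ∈ D) (hy : y ∈ D) (xp : x ≠ p) (yp : y ≠ p)
    (cx : Commute p x) (cy : Commute p y) (hxy : ¬ Commute x y) :
    ∃ w ∈ D, w ≠ p ∧ Commute p w ∧ w ≠ x ∧ w ≠ y ∧ Commute x w ∧ Commute y w := by
  obtain ⟨A⟩ := L.chart p hp
  obtain ⟨u, rfl⟩ := A.pnt_surj hx xp cx
  obtain ⟨v, rfl⟩ := A.pnt_surj hy yp cy
  have huv : h u.1 v.1 ≠ 0 := fun e => hxy ((A.pnt_comm_iff u v).mpr e)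
  obtain ⟨v2, hv2, hli⟩ := exists_second (hF := hF) u
  set c := h v2.1 v.1
  set d := h u.1 v.1
  set z := c • u.1 + d • v2.1 with hz
  have z0 : z ≠ 0 := fun e => huv (hli c d e).2
  have zu : h z u.1 = 0 := by
    rw [hz, h_add_left, h_smul_left, h_smul_left, u.2.2, swap_zero hF hv2]; ring
  have zv : h z v.1 = 0 := by
    rw [hz, h_add_left, h_smul_left, h_smul_left]
    show c * d + d * c = 0
    linear_combination (c * d) * two_zero hF
  have zz : h z z = 0 := by
    simp only [hz, h_add_left, h_add_right hF, h_smul_left, h_smul_right hF, u.2.2, v2.2.2, hv2, swap_zero hF hv2]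
    ring
  refine ⟨A.pnt ⟨z, z0, zz⟩, A.pnt_mem _, A.pnt_ne _, A.pnt_comm _, fun e => ?_, fun e => ?_,
    (A.pnt_comm_iff _ _).mpr (swap_zero hF zu), (A.pnt_comm_iff _ _).mpr (swap_zero hF zv)⟩
  · obtain ⟨t, ht⟩ := (A.pnt_eq_iff _ _).mp e
    exact huv (hli (c - t) d (by rw [sub_smul, ← show z = t • u.1 from ht, hz]; abel)).2
  · obtain ⟨t, ht⟩ := (A.pnt_eq_iff _ _).mp e
    have t0 : t ≠ 0 := fun k => z0 (by rw [show z = t • v.1 from ht, k, zero_smul])
    rw [show z = t • v.1 from ht, h_smul_left] at zu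
    exact huv (swap_zero hF ((mul_eq_zero.mp zu).resolve_left t0))

end Local

variable {G : Type} [Group G] {M : Model G hF}

namespace Emb

variable (E : Emb M)
include E

theorem pull {x : G} (hx : x ∈ E.DK) : ∃ p ∈ DP, E.f p = x := hx

theorem split_two {p q e : G} (hp : p ∈ E.DK) (hq : q ∈ E.DK) (he : e ∈ E.DK) (hne : p ≠ q) (hc : Commute p q)
    (hce : Commute e (p * q)) : Commute e p ∧ Commute e q := by
  haveI := CfsgThreeTrans.Exist.finite22
  obtain ⟨p', mp, rfl⟩ := hp
  obtain ⟨q', mq, rfl⟩ := hq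
  obtain ⟨e', me, rfl⟩ := he
  have cc : ∀ {s t : presFi22.Grp}, Commute (E.f s) (E.f t) → Commute s t := fun {s t} k =>
    E.inj (by rw [map_mul, map_mul]; exact k.eq)
  have := M22.commute_members Fi22Class.facts.2.1.1 (l := [p', q']) (by simp)
    (by simpa using fun k : p' = q' => hne (by rw [k])) (by simp [mp, mq])
    (by simpa using ⟨cc hc, (cc hc).symm⟩) me (cc (by simpa using hce))
  exact ⟨(this p' (by simp)).map E.f, (this q' (by simp)).map E.f⟩

theorem split_three {p q r e : G} (hp : p ∈ E.DK) (hq : q ∈ E.DK) (hr : r ∈ E.DK) (he : e ∈ E.DK) (pq : p ≠ q)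
    (pr : p ≠ r) (qr : q ≠ r) (cpq : Commute p q) (cpr : Commute p r) (cqr : Commute q r)
    (hce : Commute e (p * (q * r))) : Commute e p ∧ Commute e q ∧ Commute e r := by
  haveI := CfsgThreeTrans.Exist.finite22
  obtain ⟨p', mp, rfl⟩ := hp
  obtain ⟨q', mq, rfl⟩ := hq
  obtain ⟨r', mr, rfl⟩ := hr
  obtain ⟨e', me, rfl⟩ := he
  have cc : ∀ {s t : presFi22.Grp}, Commute (E.f s) (E.f t) → Commute s t := fun {s t} k =>
    E.inj (by rw [map_mul, map_mul]; exact k.eq)
  have := M22.commute_members Fi22Class.facts.2.1.1 (l := [p', q', r']) (by simp) (by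
      have n1 : p' ≠ q' := fun k => pq (by rw [k])
      have n2 : p' ≠ r' := fun k => pr (by rw [k])
      have n3 : q' ≠ r' := fun k => qr (by rw [k])
      simp [n1, n2, n3]) (by simp [mp, mq, mr])
    (by
      have c1 := cc cpq; have c2 := cc cpr; have c3 := cc cqr
      simp [c1, c2, c3, c1.symm, c2.symm, c3.symm]) me (cc (by simpa using hce))
  exact ⟨(this p' (by simp)).map E.f, (this q' (by simp)).map E.f, (this r' (by simp)).map E.f⟩

variable [Finite G]

/-- A member with dihedral relation of two-power order to one inside lies inside. -/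
theorem two_power (k : ℕ) : ∀ {x y : G}, x ∈ E.DK → y ∈ conjugatesOf M.d → (x * y) ^ (2 ^ k) = 1 → y ∈ E.K := by
  induction k with
  | zero =>
    intro x y hx hy he
    rw [pow_zero, pow_one] at he
    have : y = x := by
      rw [eq_inv_of_mul_eq_one_right he, inv_eq_of_mul_eq_one_right (M.class_sq (E.DK_sub hx)).1]
    rw [this]; exact E.DK_K x hx
  | succ k ih =>
    intro x y hx hy he
    have yy := (M.class_sq hy).1
    have yi : y⁻¹ = y := inv_eq_of_mul_eq_one_right yy
    refine E.mem_of_conj hx (ih hx (M.mem_conj (E.DK_sub hx) y) ?_)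
    rw [yi, show x * (y * x * y) = (x * y) ^ 2 by rw [pow_two]; simp only [mul_assoc], ← pow_mul, ← pow_succ']
    exact he

/-- A conjugate of a member inside, commuting with a given one inside. -/
theorem meet {x y : G} (hx : x ∈ E.DK) (hy : y ∈ conjugatesOf M.d) : ∃ g y' : G, g * y * g⁻¹ = y' ∧ y' ∈ E.DK ∧
    Commute x y' ∧ (∀ z, Commute z x → Commute z y → Commute g z) ∧ Commute y (x * y') := by
  have xx := (M.class_sq (E.DK_sub hx)).1
  have yy := (M.class_sq hy).1
  set r := x * y with hr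
  obtain ⟨k, q, hq, hn⟩ := Nat.exists_eq_two_pow_mul_odd (orderOf_pos r).ne'
  obtain ⟨j, hj⟩ : ∃ j, 2 * j = q + 1 := ⟨(q + 1) / 2, by obtain ⟨m, rfl⟩ := hq; omega⟩
  have yr : y * r * y⁻¹ = r⁻¹ := by
    rw [hr, _root_.mul_inv_rev, inv_eq_of_mul_eq_one_right xx, inv_eq_of_mul_eq_one_right yy]
    simp only [mul_assoc, yy, mul_one]
  have yrn : ∀ n : ℕ, y * r ^ n * y⁻¹ = (r ^ n)⁻¹ := fun n => by
    rw [← conj_pow, yr, inv_pow]
  set g := r ^ j with hg
  set y' := g * y * g⁻¹ with hy'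
  have ey' : y' = r ^ (q + 1) * y := by
    have : y * g⁻¹ = g * y := by
      rw [hg, ← yrn j]
      calc y * (y * r ^ j * y⁻¹) = y * y * r ^ j * y⁻¹ := by simp only [mul_assoc]
        _ = r ^ j * y := by rw [yy, one_mul, inv_eq_of_mul_eq_one_right yy]
    rw [hy', mul_assoc, this, ← mul_assoc, hg, ← pow_add, ← two_mul, hj]
  have exy : x * y' = (r ^ q)⁻¹ := by
    have e1 : x = y⁻¹ * r⁻¹ := by
      rw [hr, _root_.mul_inv_rev, inv_eq_of_mul_eq_one_right xx, inv_eq_of_mul_eq_one_right yy, ← mul_assoc, yy,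
        one_mul]
    rw [ey', e1, inv_eq_of_mul_eq_one_right yy, ← yrn q, inv_eq_of_mul_eq_one_right yy, pow_succ']
    simp only [mul_assoc, inv_mul_cancel_left]
  have hpow : (x * y') ^ (2 ^ k) = 1 := by
    rw [exy, inv_pow, ← pow_mul, mul_comm, ← hn, pow_orderOf_eq_one, inv_one]
  have hyD : y' ∈ conjugatesOf M.d := M.mem_conj hy g
  have hK : y' ∈ E.DK := E.class_inter hyD (E.two_power k hx hyD hpow)
  have h2 : (x * y') ^ 2 = 1 := by
    obtain ⟨x', mx, ex⟩ := E.pull hx
    obtain ⟨z', mz, ez⟩ := E.pull hK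
    rcases Fi22Class.facts.2.1.1.2 x' mx z' mz with e | e
    · rw [← ex, ← ez, ← map_mul, ← map_pow, e, map_one]
    · have e3 : (x * y') ^ 3 = 1 := by rw [← ex, ← ez, ← map_mul, ← map_pow, e, map_one]
      have o3 := Nat.dvd_gcd (orderOf_dvd_of_pow_eq_one e3) (orderOf_dvd_of_pow_eq_one hpow)
      have : Nat.gcd 3 (2 ^ k) = 1 := Nat.Coprime.pow_right k (by norm_num)
      rw [this, Nat.dvd_one, orderOf_eq_one_iff] at o3
      rw [o3, one_pow]
  refine ⟨g, y', rfl, hK, ?_, fun z zx zy => ((zx.mul_right zy).pow_right j).symm, ?_⟩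
  · have e := inv_eq_of_mul_eq_one_right (show x * y' * (x * y') = 1 by rw [← pow_two]; exact h2)
    rw [_root_.mul_inv_rev, inv_eq_of_mul_eq_one_right xx, inv_eq_of_mul_eq_one_right (M.class_sq hyD).1] at e
    exact e.symm
  · have rq : (r ^ q)⁻¹ = r ^ q := by
      rw [exy, pow_two] at h2
      simpa using (inv_eq_of_mul_eq_one_right h2).symm
    show y * (x * y') = x * y' * y
    rw [exy, rq]
    calc y * r ^ q = y * r ^ q * y⁻¹ * y := by rw [inv_mul_cancel_right]
      _ = r ^ q * y := by rw [yrn q, rq]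

/-- A member whose product with `p * q` is a member again, and commutes with it. -/
def Q (y p q : G) : Prop := p ∈ E.DK ∧ q ∈ E.DK ∧ p ≠ q ∧ Commute p q ∧ Commute y (p * q) ∧
  y * (p * q) ∈ conjugatesOf M.d

theorem Q_symm {y p q : G} (hQ : E.Q y p q) : E.Q y q p := by
  obtain ⟨h1, h2, h3, h4, h5, h6⟩ := hQ
  rw [h4.eq] at h5 h6
  exact ⟨h2, h1, h3.symm, h4.symm, h5, h6⟩

/-- Conjugates by meets of a member with a pair. -/
theorem Q_edge {y p q r g y' : G} (hy : y ∈ conjugatesOf M.d) (hQ : E.Q y p q) (hr : r ∈ E.DK) (rp : Commute r p)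
    (rq : Commute r q) (e : g * y * g⁻¹ = y') (hy' : y' ∈ E.DK) (ry : Commute r y')
    (cen : ∀ z, Commute z r → Commute z y → Commute g z) (cy : Commute y (r * y')) :
    (y' = p ∨ y' = q) ∧ (r ≠ y' → E.Q y y' r) := by
  obtain ⟨hp, hq, pq, cpq, ypq, hm⟩ := hQ
  have gpq : Commute g (p * q) := cen _ ((rp.mul_right rq).symm) ypq.symm
  have hm' : y' * (p * q) ∈ conjugatesOf M.d := by
    have := M.mem_conj hm g
    rwa [show g * (y * (p * q)) * g⁻¹ = (g * y * g⁻¹) * (g * (p * q) * g⁻¹) by group, e,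
      show g * (p * q) * g⁻¹ = p * q from mul_inv_eq_iff_eq_mul.mpr gpq.eq] at this
  have ypq' : Commute y' (p * q) := by
    have := ypq.map (MulAut.conj g).toMonoidHom
    simpa [MulAut.conj_apply, e, show g * (p * q) * g⁻¹ = p * q from mul_inv_eq_iff_eq_mul.mpr gpq.eq] using this
  obtain ⟨cp, cq⟩ := E.split_two hp hq hy' pq cpq ypq'
  refine ⟨?_, fun ne => ?_⟩
  · by_contra k
    push Not at k
    exact triple_not_mem E.loc (E.DK_sub hy') (E.DK_sub hp) (E.DK_sub hq) (Ne.symm k.1) (Ne.symm k.2) pq cp cq cpq hm'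
  · refine ⟨hy', hr, Ne.symm ne, ry.symm, by rwa [← ry.eq], ?_⟩
    have gr : Commute g (r * y') := cen _ ((Commute.refl r).mul_left ry.symm) cy.symm
    have : y * (r * y') = g⁻¹ * r * g := by
      have e1 : g * (y * (r * y')) * g⁻¹ = r := by
        rw [show g * (y * (r * y')) * g⁻¹ = g * y * g⁻¹ * (g * (r * y') * g⁻¹) by group, e,
          mul_inv_eq_iff_eq_mul.mpr gr.eq, ry.eq, ← mul_assoc, (M.class_sq (E.DK_sub hy')).1, one_mul]
      calc y * (r * y') = g⁻¹ * (g * (y * (r * y')) * g⁻¹) * g := by group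
        _ = g⁻¹ * r * g := by rw [e1]
    rw [← ry.eq, this]
    simpa using M.mem_conj (E.DK_sub hr) g⁻¹

/-- A member pairing with a pair inside lies inside. -/
theorem Q_mem {y p q : G} (hy : y ∈ conjugatesOf M.d) (hQ : E.Q y p q) : y ∈ E.K := by
  classical
  choose val yv ev hv cv cenv cyv using fun x : E.DK => E.meet x.2 hy
  -- the value at a member
  let Val : ↥E.DK → G := yv
  have edge : ∀ {p q : G} (r : ↥E.DK), E.Q y p q → Commute (r : G) p → Commute (r : G) q →
      (Val r = p ∨ Val r = q) ∧ ((r : G) ≠ Val r → E.Q y (Val r) r) := fun r hQ rp rq =>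
    E.Q_edge hy hQ r.2 rp rq (ev r) (hv r) (cv r) (cenv r) (cyv r)
  -- a common partner
  obtain ⟨hp, hq, pq, cpq, -, -⟩ := id hQ
  obtain ⟨A⟩ := E.loc.chart M.d mem_conjugatesOf_self
  obtain ⟨r, hr, rp, rq, crp, crq⟩ : ∃ r ∈ E.DK, r ≠ p ∧ r ≠ q ∧ Commute r p ∧ Commute r q := by
    obtain ⟨P⟩ := E.loc.chart p (E.DK_sub hp)
    obtain ⟨u, rfl⟩ := P.pnt_surj (E.DK_sub hq) pq.symm cpq
    obtain ⟨v, huv, hli⟩ := exists_second (hF := hF) u
    refine ⟨P.pnt v, E.class_inter (P.pnt_mem v) (E.cent_mem hp (P.pnt_comm v)), P.pnt_ne v, fun e => ?_,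
      (P.pnt_comm v).symm, (P.pnt_comm_iff v u).mpr (swap_zero hF huv)⟩
    obtain ⟨c, hc⟩ := (P.pnt_eq_iff _ _).mp e
    exact one_ne_zero ((hli (-c) 1 (by rw [hc]; module)).2)
  -- make the value at `r` the first of the pair
  wlog hfirst : Val ⟨r, hr⟩ = p generalizing p q
  · exact this (E.Q_symm hQ) hq hp pq.symm cpq.symm rq rp crq crp
      (((edge ⟨r, hr⟩ hQ crp crq).1).resolve_left hfirst)
  let I : G → Prop := fun x => ∃ hx : x ∈ E.DK, Val ⟨x, hx⟩ = p ∧ E.Q y p x
  have Qpr : E.Q y p r := by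
    have := (edge ⟨r, hr⟩ hQ crp crq).2 (by rw [hfirst]; exact rp)
    rwa [hfirst] at this
  have base : I q := by
    refine ⟨hq, ?_, hQ⟩
    rcases (edge ⟨q, hq⟩ hQ cpq.symm (Commute.refl q)).1 with e | e
    · exact e
    · rcases (edge ⟨q, hq⟩ Qpr cpq.symm crq.symm).1 with e' | e'
      · exact e'
      · exact absurd (e'.symm.trans e) rq
  have stepI : ∀ x x', I x → x' ∈ E.DK → x' ≠ p → x' ≠ x → Commute x' p → Commute x' x → I x' := by
    rintro x x' ⟨hx, hval, hQx⟩ hx' x'p x'x cp cx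
    obtain ⟨k1, k2⟩ := edge ⟨x', hx'⟩ hQx cp cx
    rcases k1 with e | e
    · refine ⟨hx', e, ?_⟩
      have := k2 (by rw [e]; exact x'p)
      rwa [e] at this
    · exfalso
      have := k2 (by rw [e]; exact x'x)
      rw [e] at this
      rcases (edge ⟨x, hx⟩ this (Commute.refl x) cx.symm).1 with e' | e'
      · exact hQx.2.2.1 (hval.symm.trans e')
      · exact x'p (e'.symm.trans hval)
  have all : ∀ x ∈ E.DK, x ≠ p → Commute p x → I x := by
    intro x hx xp cx
    by_cases xq : x = q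
    · subst xq; exact base
    by_cases cxq : Commute x q
    · exact stepI q x base hx xp xq cx.symm cxq
    · obtain ⟨w, hw, wp, cpw, wx, wq, cxw, cqw⟩ := common_neighbour E.loc (E.DK_sub hp) (E.DK_sub hx) (E.DK_sub hq)
        xp pq.symm cx cpq cxq
      have hwK : w ∈ E.DK := E.class_inter hw (E.cent_mem hp cpw)
      exact stepI w x (stepI q w base hwK wp wq cpw.symm cqw.symm) hx xp (Ne.symm wx) cx.symm cxw
  obtain ⟨P⟩ := E.loc.chart p (E.DK_sub hp)
  set C := Subgroup.centralizer ({p} : Set G)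
  have pp := (M.class_sq (E.DK_sub hp)).1
  have pc : ∀ g : ↥C, Commute p (g : G) := fun g => mem_cent.mp g.2
  let W : Subgroup ↥C :=
    { carrier := {g | Commute y (g : G) ∨ Commute y (p * (g : G))}
      one_mem' := Or.inl (by simp)
      mul_mem' := fun {g k} hg hk => by
        have e : p * ((g : G) * (k : G)) = p * (g : G) * (k : G) := (mul_assoc _ _ _).symm
        have e' : p * ((g : G) * (k : G)) = (g : G) * (p * (k : G)) := by
          rw [← mul_assoc, (pc g).eq, mul_assoc]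
        have e'' : (g : G) * (k : G) = p * (g : G) * (p * (k : G)) := by
          calc (g : G) * (k : G) = p * p * g * k := by rw [pp, one_mul]
            _ = p * (p * g) * k := by simp only [mul_assoc]
            _ = p * (g * p) * k := by rw [(pc g).eq]
            _ = _ := by simp only [mul_assoc]
        rcases hg with hg | hg <;> rcases hk with hk | hk
        · exact Or.inl (hg.mul_right hk)
        · exact Or.inr (by rw [Subgroup.coe_mul, e']; exact hg.mul_right hk)
        · exact Or.inr (by rw [Subgroup.coe_mul, e]; exact hg.mul_right hk)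
        · exact Or.inl (by rw [Subgroup.coe_mul, e'']; exact hg.mul_right hk)
      inv_mem' := fun {g} hg => by
        rcases hg with hg | hg
        · exact Or.inl hg.inv_right
        · refine Or.inr ?_
          have := hg.inv_right
          rwa [_root_.mul_inv_rev, inv_eq_of_mul_eq_one_right pp, ← ((pc g).inv_right).eq] at this }
  have Wpnt : ∀ u, P.pnt' u ∈ W := fun u => by
    obtain ⟨-, -, hQu⟩ := all (P.pnt u) (E.class_inter (P.pnt_mem u) (E.cent_mem hp (P.pnt_comm u)))
      (P.pnt_ne u) (P.pnt_comm u)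
    exact Or.inr hQu.2.2.2.2.1
  have pW : (⟨p, mem_cent.mpr (Commute.refl p)⟩ : ↥C) ∈ W := Or.inr (by
    show Commute y (p * p)
    rw [pp]; exact Commute.one_right y)
  have Wtop : W = ⊤ := by
    have hmap : W.map P.ψ = ⊤ := by
      have htop : Subgroup.map π (Subgroup.closure (TSet (F := F) (q := 2) (n := 6))) =
          (⊤ : Subgroup (Cfsg.PSU 6 F 2)) := by
        rw [generated hF (by norm_num) (by norm_num)]
        exact Subgroup.map_top_of_surjective _ (QuotientGroup.mk'_surjective _)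
      rw [eq_top_iff, ← htop, MonoidHom.map_closure, Subgroup.closure_le]
      rintro _ ⟨T, ⟨v, c, hv, hT⟩, rfl⟩
      by_cases hv0 : v = 0
      · have : T = 1 := su_ext fun x => by rw [hT, hv0, tmat_zero, mat_one, one_mulVec]
        rw [this, map_one]; exact one_mem _
      have hcs : c + frob hF c = 0 := skew_of_tmat hF hv hv0 fun a b => by rw [← hT]; exact su_h T a b
      rw [frob_eq hF] at hcs
      have : c * (c - 1) = 0 := by linear_combination hcs - c * two_zero hF
      rcases mul_eq_zero.mp this with e | e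
      · have : T = 1 := su_ext fun x => by
          rw [hT, e, tmat_mulVec, mat_one, one_mulVec, zero_mul, zero_smul, add_zero]
        rw [this, map_one]; exact one_mem _
      · have hc1 : c = 1 := sub_eq_zero.mp e
        refine ⟨P.pnt' ⟨v, hv0, hv⟩, Wpnt _, ?_⟩
        rw [P.ψ_pnt]
        exact congrArg _ (su_ext fun x => by rw [tu_mulVec hF hv, hT, hc1, tmat_mulVec, one_mul])
    rw [eq_top_iff]
    intro g _
    obtain ⟨w, hw, e⟩ := (hmap.symm ▸ Subgroup.mem_top (P.ψ g) : P.ψ g ∈ W.map P.ψ)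
    rcases P.ker' (g := g * w⁻¹) (by rw [map_mul, map_inv, e, mul_inv_cancel]) with k | k
    · rw [mul_inv_eq_one.mp (show g * w⁻¹ = 1 from Subtype.ext k)]; exact hw
    · rw [mul_inv_eq_iff_eq_mul.mp (show g * w⁻¹ = ⟨p, mem_cent.mpr (Commute.refl p)⟩ from Subtype.ext k)]
      exact W.mul_mem pW hw
  let S : Subgroup ↥C := (Subgroup.centralizer ({y} : Set G)).comap C.subtype
  have hS : S = ⊤ := by
    rw [eq_top_iff, ← P.perfect, commutator_def, Subgroup.commutator_le]
    intro g _ k _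
    have mem : ∀ g : ↥C, Commute y (g : G) ∨ Commute y (p * (g : G)) := fun g =>
      (show g ∈ W by rw [Wtop]; exact Subgroup.mem_top g)
    have pick : ∀ g : ↥C, ∃ z : G, Commute y z ∧ ((g : G) = z ∨ (g : G) = p * z) := fun g => by
      rcases mem g with k | k
      · exact ⟨_, k, Or.inl rfl⟩
      · exact ⟨_, k, Or.inr (by rw [← mul_assoc, pp, one_mul])⟩
    show (⁅g, k⁆ : ↥C).1 ∈ Subgroup.centralizer ({y} : Set G)
    rw [mem_cent]
    obtain ⟨z, hz, ez⟩ := pick g
    obtain ⟨z', hz', ez'⟩ := pick k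
    have pi : p⁻¹ = p := inv_eq_of_mul_eq_one_right pp
    have cz : Commute p z := by
      rcases ez with e | e
      · rw [← e]; exact pc g
      · rw [show z = p * (g : G) by rw [e, ← mul_assoc, pp, one_mul]]; exact (Commute.refl p).mul_right (pc g)
    have cz' : Commute p z' := by
      rcases ez' with e | e
      · rw [← e]; exact pc k
      · rw [show z' = p * (k : G) by rw [e, ← mul_assoc, pp, one_mul]]; exact (Commute.refl p).mul_right (pc k)
    have key : (⁅g, k⁆ : ↥C).1 = z * z' * z⁻¹ * z'⁻¹ := by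
      show (g : G) * (k : G) * (g : G)⁻¹ * (k : G)⁻¹ = _
      have a1 : ∀ x : G, Commute p x → ∀ v : G, x * (p * v) = p * (x * v) := fun x hx v => by
        rw [← mul_assoc, hx.eq.symm, mul_assoc]
      have pp' : ∀ v : G, p * (p * v) = v := fun v => by rw [← mul_assoc, pp, one_mul]
      rcases ez with e | e <;> rcases ez' with e' | e' <;> rw [e, e'] <;>
        simp only [_root_.mul_inv_rev, pi, mul_assoc, a1 z cz, a1 z' cz', a1 _ cz.inv_right, a1 _ cz'.inv_right,
          cz.inv_right.eq.symm, cz'.inv_right.eq.symm, pp']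
    rw [key]
    exact ((hz.mul_right hz').mul_right hz.inv_right).mul_right hz'.inv_right
  refine E.cent_mem hp (Commute.symm ?_)
  exact mem_cent.mp ((hS.symm ▸ Subgroup.mem_top _ : (⟨p, mem_cent.mpr (Commute.refl p)⟩ : ↥C) ∈ S))

/-- Members commuting with a product of two inside lie inside. -/
theorem pair_mem {y p q : G} (hy : y ∈ conjugatesOf M.d) (hp : p ∈ E.DK) (hq : q ∈ E.DK) (pq : p ≠ q)
    (cpq : Commute p q) (hc : Commute y (p * q)) : y ∈ E.K := by
  obtain ⟨g, y', e, hy', cp, cen, cy⟩ := E.meet hp hy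
  have gc : Commute g (p * q) := cen _ ((Commute.refl p).mul_left cpq.symm) hc.symm
  by_cases k : y' = p
  · refine E.Q_mem hy (p := p) (q := q) ⟨hp, hq, pq, cpq, hc, ?_⟩
    have e1 : y * (p * q) = g⁻¹ * q * g := by
      have : g * (y * (p * q)) * g⁻¹ = q := by
        rw [show g * (y * (p * q)) * g⁻¹ = g * y * g⁻¹ * (g * (p * q) * g⁻¹) by group, e,
          mul_inv_eq_iff_eq_mul.mpr gc.eq, k, ← mul_assoc, (M.class_sq (E.DK_sub hp)).1, one_mul]
      calc y * (p * q) = g⁻¹ * (g * (y * (p * q)) * g⁻¹) * g := by group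
        _ = g⁻¹ * q * g := by rw [this]
    rw [e1]
    simpa using M.mem_conj (E.DK_sub hq) g⁻¹
  · refine E.Q_mem hy (p := p) (q := y') ⟨hp, hy', Ne.symm k, cp, cy, ?_⟩
    have gc' : Commute g (p * y') := cen _ ((Commute.refl p).mul_left cp.symm) cy.symm
    have e1 : y * (p * y') = g⁻¹ * p * g := by
      have : g * (y * (p * y')) * g⁻¹ = p := by
        rw [show g * (y * (p * y')) * g⁻¹ = g * y * g⁻¹ * (g * (p * y') * g⁻¹) by group, e,
          mul_inv_eq_iff_eq_mul.mpr gc'.eq, cp.eq, ← mul_assoc, (M.class_sq (E.DK_sub hy')).1, one_mul]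
      calc y * (p * y') = g⁻¹ * (g * (y * (p * y')) * g⁻¹) * g := by group
        _ = g⁻¹ * p * g := by rw [this]
    rw [e1]
    simpa using M.mem_conj (E.DK_sub hp) g⁻¹

/-- Members commuting with a product of three inside lie inside. -/
theorem triple_mem {y a b c : G} (hy : y ∈ conjugatesOf M.d) (ha : a ∈ E.DK) (hb : b ∈ E.DK) (hc' : c ∈ E.DK)
    (ab : a ≠ b) (ac : a ≠ c) (bc : b ≠ c) (cab : Commute a b) (cac : Commute a c) (cbc : Commute b c)
    (hc : Commute y (a * (b * c))) : y ∈ E.K := by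
  obtain ⟨A⟩ := E.loc.chart a (E.DK_sub ha)
  obtain ⟨u, rfl⟩ := A.pnt_surj (E.DK_sub hb) ab.symm cab
  obtain ⟨v, rfl⟩ := A.pnt_surj (E.DK_sub hc') ac.symm cac
  have huv := (A.pnt_comm_iff u v).mp cbc
  obtain ⟨W, huW, hvW, hind⟩ := exists_third (hF := hF) u v huv (A.li_two bc)
  have Wout : ∀ s t : F, W.1 ≠ s • u.1 + t • v.1 := fun s t e =>
    one_ne_zero (α := F) (by
      linear_combination -((li_three hF).mp hind s t (-1) (by rw [e]; module)).2.2)
  have Wu : A.pnt W ≠ A.pnt u := fun e => by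
    obtain ⟨s, hs⟩ := (A.pnt_eq_iff _ _).mp e
    exact Wout s 0 (by rw [hs, zero_smul, add_zero])
  have Wv : A.pnt W ≠ A.pnt v := fun e => by
    obtain ⟨s, hs⟩ := (A.pnt_eq_iff _ _).mp e
    exact Wout 0 s (by rw [hs, zero_smul, zero_add])
  set x := A.pnt W
  have cax : Commute a x := A.pnt_comm W
  have hx : x ∈ E.DK := E.class_inter (A.pnt_mem W) (E.cent_mem ha cax)
  have cxb : Commute x (A.pnt u) := (A.pnt_comm_iff W u).mpr (swap_zero hF huW)
  have cxc : Commute x (A.pnt v) := (A.pnt_comm_iff W v).mpr (swap_zero hF hvW)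
  set b := A.pnt u
  set c := A.pnt v
  set w := a * (b * c) with hw
  have val : ∀ z ∈ E.DK, Commute z w → ∃ g, g * y * g⁻¹ = z ∧ Commute g w ∨ y ∈ E.K := by
    intro z hz hzw
    obtain ⟨g, y', e, hy', cz, cen, cy⟩ := E.meet hz hy
    by_cases k : y' = z
    · exact ⟨g, Or.inl ⟨e.trans k, cen w hzw.symm hc.symm⟩⟩
    · exact ⟨g, Or.inr (E.pair_mem hy hz hy' (Ne.symm k) cz cy)⟩
  have caw : Commute a w := (Commute.refl a).mul_right (cab.mul_right cac)
  have cxw : Commute x w := cax.symm.mul_right (cxb.mul_right cxc)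
  obtain ⟨g, hg⟩ := val a ha caw
  rcases hg with ⟨hga, hgw⟩ | k
  swap
  · exact k
  obtain ⟨g', hg'⟩ := val x hx cxw
  rcases hg' with ⟨hgx, hgw'⟩ | k
  swap
  · exact k
  exfalso
  set t := g' * g⁻¹
  have ta : t * a * t⁻¹ = x := by rw [← hga, ← hgx, show t = g' * g⁻¹ from rfl]; group
  have tw : Commute t w := hgw'.mul_left hgw.inv_left
  have tK : t ∈ E.K := E.mem_of_conj ha (by rw [ta]; exact E.DK_K x hx)
  set φ := (MulAut.conj t).toMonoidHom
  have e0 : φ w = w := mul_inv_eq_iff_eq_mul.mpr tw.eq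
  have e1 : w = x * (φ b * φ c) := by
    conv_lhs => rw [← e0, hw, map_mul, map_mul]
    show t * a * t⁻¹ * _ = _
    rw [ta]
  have bx : φ b ≠ x := fun k => ab (by
    refine (MulAut.conj t).injective ?_
    show t * a * t⁻¹ = φ b
    rw [ta, k])
  have cx : φ c ≠ x := fun k => ac (by
    refine (MulAut.conj t).injective ?_
    show t * a * t⁻¹ = φ c
    rw [ta, k])
  have kb : φ b ∈ conjugatesOf M.d := M.mem_conj (E.DK_sub hb) t
  have kc : φ c ∈ conjugatesOf M.d := M.mem_conj (E.DK_sub hc') t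
  have kxb : Commute x (φ b) := by rw [← ta]; exact cab.map φ
  have kxc : Commute x (φ c) := by rw [← ta]; exact cac.map φ
  obtain ⟨X⟩ := E.loc.chart x (E.DK_sub hx)
  obtain ⟨U, hU⟩ := X.pnt_surj kb bx kxb
  obtain ⟨V, hV⟩ := X.pnt_surj kc cx kxc
  have hUV : X.pnt U ≠ X.pnt V := by rw [hU, hV]; exact fun k => bc ((MulAut.conj t).injective k)
  obtain ⟨s, sx, -, -, ss⟩ := root_pair E.loc X U V hUV
    ((X.pnt_comm_iff U V).mp (by rw [hU, hV]; exact cbc.map φ)) (Or.inl rfl)
  obtain ⟨UA, hA⟩ := X.pnt_surj (E.DK_sub ha) (A.pnt_ne W).symm cax.symm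
  obtain ⟨UB, hB⟩ := X.pnt_surj (E.DK_sub hb) Wu.symm cxb
  obtain ⟨UC, hC⟩ := X.pnt_surj (E.DK_sub hc') Wv.symm cxc
  have oAB := (X.pnt_comm_iff UA UB).mp (by rw [hA, hB]; exact cab)
  have oAC := (X.pnt_comm_iff UA UC).mp (by rw [hA, hC]; exact cac)
  have oBC := (X.pnt_comm_iff UB UC).mp (by rw [hB, hC]; exact cbc)
  have indX : LinearIndependent F ![UA.1, UB.1, UC.1] := by
    refine X.li_of_not_span (by rw [hA, hB]; exact ab) fun s t e => ?_
    have col := (X.col_iff (by rw [hA, hB]; exact ab) oAB oAC oBC).mpr ⟨s, t, e⟩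
    rw [hA, hB, hC] at col
    have col' := col.swap (E.DK_sub hx) ac.symm
    obtain ⟨s', t', e'⟩ := (A.col_iff Wu (swap_zero hF huW) (swap_zero hF hvW) huv).mp col'
    have s0 : s' ≠ 0 := fun k => bc.symm ((A.pnt_eq_iff _ _).mpr ⟨t', by rw [e', k, zero_smul, zero_add]⟩)
    refine Wout (-(s'⁻¹ * t')) s'⁻¹ ?_
    rw [e', smul_add, smul_smul, smul_smul, inv_mul_cancel₀ s0, one_smul]
    module
  obtain ⟨k, hk⟩ := QuotientGroup.mk'_surjective _ (X.ψ ⟨s, mem_cent.mpr sx⟩)
  refine rank_three_no_square hF UA.2.2 UB.2.2 UC.2.2 oAB oAC oBC indX k ?_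
  rw [map_mul, map_mul, map_mul, hk, ← X.ψ_pnt, ← X.ψ_pnt, ← X.ψ_pnt, ← map_mul, ← map_mul, ← map_mul]
  have : (⟨s, mem_cent.mpr sx⟩ : ↥(Subgroup.centralizer ({x} : Set G))) * ⟨s, mem_cent.mpr sx⟩ =
      ⟨x, mem_cent.mpr (Commute.refl x)⟩ * (X.pnt' UA * X.pnt' UB * X.pnt' UC) := by
    refine Subtype.ext ?_
    show s * s = x * (X.pnt UA * X.pnt UB * X.pnt UC)
    rw [ss, hA, hB, hC, hU, hV, mul_assoc a, ← hw, e1, ← mul_assoc, (M.class_sq (E.DK_sub hx)).1, one_mul]
  rw [this, map_mul, (X.ker _).mpr (Or.inr rfl), one_mul]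

/-- The centraliser of an involution inside lies inside. -/
theorem cent_invol {z g : G} (hz : z ∈ E.K) (zz : z * z = 1) (z1 : z ≠ 1) (hg : Commute z g) : g ∈ E.K := by
  classical
  haveI := CfsgThreeTrans.Exist.finite22
  obtain ⟨x, rfl⟩ := hz
  have xx : x * x = 1 := E.inj (by rw [map_mul, map_one]; exact zz)
  have hG : IsThreeTranspositionGroup DP :=
    ⟨Fi22Class.facts.2.1.1, fun g d hd => cls_conj Fi22Class.facts.2.1 g hd, Fi22Class.facts.2.1.2.2⟩
  have hp := M22.primitive Fi22Class.facts.2.1 CfsgThreeTrans.Exist.type22_pres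
  obtain ⟨t, htD, h3, h2, K2, iK2, iK2', iK2d, hK2, ⟨B⟩⟩ :=
    M22.exists_full hG hp CfsgThreeTrans.Exist.type22_pres
  obtain ⟨l, hlen, hnd, hm, hcm, rfl⟩ := M22.short_invol hG hp htD h3 h2 CfsgThreeTrans.Exist.type22_pres B xx
  have mm : ∀ p ∈ l, E.f p ∈ E.DK := fun p hp => ⟨p, hm p hp, rfl⟩
  have nn : ∀ {p q : presFi22.Grp}, p ≠ q → E.f p ≠ E.f q := fun k e => k (E.inj e)
  have yc : ∀ {w : G}, Commute w g → ∀ p, p ∈ l → (Commute (g * E.f p * g⁻¹) w ↔ Commute (E.f p) w) := by
    intro w hw p _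
    have e : g * w * g⁻¹ = w := mul_inv_eq_iff_eq_mul.mpr hw.symm.eq
    conv_lhs => rw [← e]
    exact commute_cj_iff g
  have done : ∀ p ∈ l, g * E.f p * g⁻¹ ∈ E.K → g ∈ E.K := fun p hp k => E.mem_of_conj (mm p hp) k
  match l with
  | [] => exact absurd (by simp) z1
  | [p] =>
    refine E.cent_mem (mm p (by simp)) ?_
    simpa using hg
  | [p, q] =>
    simp only [List.prod_cons, List.prod_nil, mul_one, map_mul] at hg
    refine done p (by simp) (E.pair_mem (M.mem_conj (E.DK_sub (mm p (by simp))) g) (mm p (by simp)) (mm q (by simp))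
      (nn (by simpa using hnd)) ((hcm p (by simp) q (by simp)).map E.f) ((yc hg p (by simp)).mpr ?_))
    exact (Commute.refl _).mul_right ((hcm p (by simp) q (by simp)).map E.f)
  | [p, q, r] =>
    simp only [List.prod_cons, List.prod_nil, mul_one, map_mul] at hg
    simp only [List.nodup_cons, List.mem_cons, List.not_mem_nil, or_false, not_or, List.nodup_nil, and_true,
      not_false_iff] at hnd
    refine done p (by simp) (E.triple_mem (M.mem_conj (E.DK_sub (mm p (by simp))) g) (mm p (by simp)) (mm q (by simp))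
      (mm r (by simp)) (nn hnd.1.1) (nn hnd.1.2) (nn hnd.2) ((hcm p (by simp) q (by simp)).map E.f)
      ((hcm p (by simp) r (by simp)).map E.f) ((hcm q (by simp) r (by simp)).map E.f) ((yc hg p (by simp)).mpr ?_))
    exact (Commute.refl _).mul_right
      (((hcm p (by simp) q (by simp)).map E.f).mul_right ((hcm p (by simp) r (by simp)).map E.f))
  | _ :: _ :: _ :: _ :: _ => simp only [List.length_cons] at hlen; omega

/-- The image is everything. -/
theorem K_top : E.K = ⊤ := by
  classical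
  haveI : IsSimpleGroup presFi22.Grp := Cfsg.Agent.S1696.result.1
  -- a product of two members
  obtain ⟨v, hv0⟩ : ∃ v : Iso F, True := by
    obtain ⟨w, w0, w1, -, -, -⟩ := exists_zeta hF
    exact ⟨⟨![1, 1, 0, 0, 0, 0], fun e => by simpa using congrFun e 0, by
      simp [Cfsg.hermForm, Fin.sum_univ_six, CfsgThreeTrans.M22.add_self hF]⟩, trivial⟩
  obtain ⟨C⟩ := E.loc.chart M.d mem_conjugatesOf_self
  set t := C.pnt v
  set u := t * M.d
  obtain ⟨s0, hs0, hsq⟩ := root_one E.loc C v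
  have uK : u ∈ E.K := E.K.mul_mem (E.cent_base (C.pnt_comm v)) (E.DK_K _ E.d_mem)
  have uu : u * u = 1 := mul_mem_sq E.loc (C.pnt_mem v) mem_conjugatesOf_self (C.pnt_comm v).symm
  have u1 : u ≠ 1 := fun e =>
    C.pnt_ne v ((eq_inv_of_mul_eq_one_left e).trans (inv_eq_of_mul_eq_one_right M.d_sq))
  -- every conjugate of it is inside
  have conjK : ∀ k : G, k * u * k⁻¹ ∈ E.K := by
    intro k
    set s := k * u * k⁻¹
    have ss : s * s = 1 := by
      rw [show s * s = k * (u * u) * k⁻¹ by simp [s, mul_assoc], uu]; group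
    have si : s⁻¹ = s := inv_eq_of_mul_eq_one_right ss
    have di : M.d⁻¹ = M.d := inv_eq_of_mul_eq_one_right M.d_sq
    set r := M.d * s with hr
    have dr : ∀ n : ℕ, M.d * r ^ n * M.d = (r ^ n)⁻¹ := fun n => by
      have : M.d * r * M.d⁻¹ = r⁻¹ := by
        rw [hr, _root_.mul_inv_rev, si, di]; simp only [← mul_assoc, M.d_sq, one_mul]
      conv_lhs => rw [show M.d * r ^ n * M.d = M.d * r ^ n * M.d⁻¹ by rw [di]]
      rw [← conj_pow, this, inv_pow]
    rcases Nat.even_or_odd (orderOf r) with he | ho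
    · obtain ⟨m, hm⟩ := he
      set z := r ^ m
      have npos : 0 < orderOf r := orderOf_pos r
      have zz : z * z = 1 := by rw [← pow_add, ← hm]; exact pow_orderOf_eq_one r
      have z1 : z ≠ 1 := fun e => by
        have := orderOf_le_of_pow_eq_one (show 0 < m by omega) e
        omega
      have zi : z⁻¹ = z := inv_eq_of_mul_eq_one_right zz
      have cdz : Commute M.d z := by
        show M.d * z = z * M.d
        calc M.d * z = M.d * z * M.d * M.d := by rw [mul_assoc _ M.d M.d, M.d_sq, mul_one]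
          _ = z * M.d := by rw [dr m, zi]
      have csz : Commute z s := by
        have : Commute z r := (Commute.refl r).pow_left m
        rw [show s = M.d * r by rw [hr, ← mul_assoc, M.d_sq, one_mul]]
        exact cdz.symm.mul_right this
      exact E.cent_invol (E.cent_base cdz) zz z1 csz
    · exfalso
      obtain ⟨m, hm⟩ := ho
      have e1 : r ^ (2 * m + 1) = 1 := hm ▸ pow_orderOf_eq_one r
      have conj : (r ^ m) * M.d * (r ^ m)⁻¹ = s := by
        have : M.d * (r ^ m)⁻¹ = r ^ m * M.d := by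
          rw [← dr m, ← mul_assoc, ← mul_assoc, M.d_sq, one_mul]
        rw [mul_assoc, this, ← mul_assoc, ← pow_add, ← two_mul]
        have : r ^ (2 * m) = r⁻¹ := eq_inv_of_mul_eq_one_left (by rw [← pow_succ]; exact e1)
        rw [this, hr, _root_.mul_inv_rev, si, di, mul_assoc, M.d_sq, mul_one]
      have hsD : s ∈ conjugatesOf M.d := conj ▸ M.mem_conj mem_conjugatesOf_self _
      have huD : u ∈ conjugatesOf M.d := by
        have := M.mem_conj hsD k⁻¹
        simpa [s, mul_assoc] using this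
      exact member_not_square E.loc huD hsq
  set N := Subgroup.normalClosure ({u} : Set G) with hN
  have NK : N ≤ E.K := by
    rw [hN, Subgroup.normalClosure, Subgroup.closure_le]
    intro z hz
    obtain ⟨a, ha, hca⟩ := Group.mem_conjugatesOfSet_iff.mp hz
    rw [Set.mem_singleton_iff.mp ha] at hca
    obtain ⟨c, rfl⟩ := isConj_iff.mp hca
    exact conjK c
  have KN : E.K ≤ N := by
    have hn : (N.comap E.f).Normal := Subgroup.Normal.comap inferInstance _
    rcases hn.eq_bot_or_eq_top with e | e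
    · exfalso
      obtain ⟨x, hx⟩ := uK
      have : x ∈ N.comap E.f := by
        rw [Subgroup.mem_comap, hx]; exact Subgroup.subset_normalClosure (Set.mem_singleton u)
      rw [e, Subgroup.mem_bot] at this
      exact u1 (by rw [← hx, this, map_one])
    · rintro _ ⟨x, rfl⟩
      exact Subgroup.mem_comap.mp (e ▸ Subgroup.mem_top x)
  rw [eq_top_iff]
  intro g _
  refine E.mem_of_conj E.d_mem ?_
  exact NK ((inferInstance : N.Normal).conj_mem _ (KN (E.DK_K _ E.d_mem)) g)

end Emb

/-- A group with a modelled centraliser is the presented Fi22, the class matching. -/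
theorem exists_iso [Finite G] (hn : M.Nwc) :
    ∃ e : presFi22.Grp ≃* G, e Fi22Class.ta = M.d := by
  obtain ⟨E⟩ := exists_emb M hn
  refine ⟨MulEquiv.ofBijective E.f ⟨E.inj, fun g => ?_⟩, E.base⟩
  exact (show g ∈ E.K by rw [E.K_top]; exact Subgroup.mem_top g)

end CfsgFi22Rec
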