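/-
Recognition of Fi22 from a quasisimple double cover of PSU(6, 2) as an involution centraliser.
-/
import Cfsg.Agent.Lib.Fi22Rec.Contain
import Cfsg.Agent.Lib.ThreeTrans.Exist.Transport
import Cfsg.Prelude.Def_CaseTheorems
import Cfsg.Agent.Lib.SUShort.Counts

set_option autoImplicit false
set_option linter.unusedSectionVars false
set_option maxRecDepth 100000

universe u

namespace CfsgFi22Rec

open Cfsg CfsgLib CfsgLib.CosetEnum CfsgThreeTrans

/-- Recognition in the lowest universe. -/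
theorem recognise_small {G : Type} [Group G] [Finite G] {d : G} (d1 : d ≠ 1) (d2 : d * d = 1)
    {K : Type} [Field K] [Fintype K] (hK : Fintype.card K = 4)
    (ψ : ↥(Subgroup.centralizer ({d} : Set G)) →* Cfsg.PSU 6 K 2) (hs : Function.Surjective ψ)
    (hk : ∀ g, ψ g = 1 ↔ (g : G) = 1 ∨ (g : G) = d)
    (hp : commutator ↥(Subgroup.centralizer ({d} : Set G)) = ⊤)
    (hn : ∃ y ∈ conjugatesOf d, Commute d y ∧ y ≠ d) : ∃ e : presFi22.Grp ≃* G, e Fi22Class.ta = d := by
  classical
  obtain ⟨F, iF, iF', iFd, hF, L⟩ := local_pres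
  obtain ⟨A⟩ := L.chart Fi22Class.ta mem_conjugatesOf_self
  obtain ⟨t⟩ := CfsgLib.SUShort.psu_congr
    (FiniteField.ringEquivOfCardEq (show Fintype.card K = Fintype.card F by rw [hK, hF]; norm_num)) 6 2
  set dC : ↥(Subgroup.centralizer ({d} : Set G)) := ⟨d, mem_cent.mpr (Commute.refl d)⟩
  obtain ⟨θ, hθ⟩ := cover_iso L (t.toMonoidHom.comp ψ) (t.surjective.comp hs) dC
    (fun e => d1 (congrArg Subtype.val e)) (Subtype.ext d2) (fun g => by
      show t (ψ g) = 1 ↔ _
      rw [MulEquiv.map_eq_one_iff, hk g]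
      exact or_congr ⟨fun e => Subtype.ext e, fun e => congrArg Subtype.val e⟩
        ⟨fun e => Subtype.ext e, fun e => congrArg Subtype.val e⟩) hp
  let M : Model G hF :=
    { d := d, hd1 := d1, L := L, A := A, θ := θ, hθ := congrArg Subtype.val (hθ _ rfl) }
  exact exists_iso (M := M) hn

/-- Recognition of Fi22. -/
theorem recognise {G : Type u} [Group G] [Finite G] (d : G) (hd : orderOf d = 2)
    (hq : Cfsg.IsQuasisimple (Subgroup.centralizer ({d} : Set G)))
    [((Subgroup.zpowers d).subgroupOf (Subgroup.centralizer ({d} : Set G))).Normal]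
    (K : Type) [Field K] [Fintype K] (hK : Fintype.card K = 4)
    (e : (Subgroup.centralizer ({d} : Set G)) ⧸
      (Subgroup.zpowers d).subgroupOf (Subgroup.centralizer ({d} : Set G)) ≃* Cfsg.PSU 6 K 2)
    (hnwc : ∃ g : G, g * d * g⁻¹ ∈ Subgroup.centralizer ({d} : Set G) ∧ g * d * g⁻¹ ≠ d) :
    ∃ f : presFi22.Grp ≃* G, f Fi22Class.ta = d := by
  classical
  have d2 : d * d = 1 := by rw [← pow_two, ← hd]; exact pow_orderOf_eq_one d
  have d1 : d ≠ 1 := fun k => by rw [k, orderOf_one] at hd; omega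
  haveI : Small.{0} G := Countable.toSmall G
  haveI : Finite (Shrink.{0} G) := Finite.of_equiv _ (equivShrink G)
  let φ : G ≃* Shrink.{0} G := Shrink.mulEquiv.symm
  let C := Subgroup.centralizer ({d} : Set G)
  let τ : ↥(Subgroup.centralizer ({φ d} : Set (Shrink.{0} G))) ≃* ↥C :=
    { toFun := fun g => ⟨φ.symm g, mem_cent.mpr (by
        have := (mem_cent.mp g.2).map φ.symm.toMonoidHom
        simpa using this)⟩
      invFun := fun g => ⟨φ g, mem_cent.mpr ((mem_cent.mp g.2).map φ.toMonoidHom)⟩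
      left_inv := fun g => Subtype.ext (φ.apply_symm_apply _)
      right_inv := fun g => Subtype.ext (φ.symm_apply_apply _)
      map_mul' := fun g g' => Subtype.ext (map_mul φ.symm _ _) }
  let ψ0 : ↥C →* Cfsg.PSU 6 K 2 := e.toMonoidHom.comp (QuotientGroup.mk' _)
  have k0 : ∀ g : ↥C, ψ0 g = 1 ↔ (g : G) = 1 ∨ (g : G) = d := fun g => by
    show e (QuotientGroup.mk' _ g) = 1 ↔ _
    rw [MulEquiv.map_eq_one_iff, QuotientGroup.mk'_apply, QuotientGroup.eq_one_iff, Subgroup.mem_subgroupOf,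
      Subgroup.mem_zpowers_iff]
    constructor
    · rintro ⟨n, hn⟩
      rw [← hn]
      rcases Int.even_or_odd n with ⟨m, rfl⟩ | ⟨m, rfl⟩
      · exact Or.inl (by rw [← two_mul, zpow_mul, zpow_two, d2, one_zpow])
      · exact Or.inr (by rw [zpow_add_one, zpow_mul, zpow_two, d2, one_zpow, one_mul])
    · rintro (k | k)
      exacts [⟨0, by rw [zpow_zero, k]⟩, ⟨1, by rw [zpow_one, k]⟩]
  haveI : Group.IsPerfect ↥C := hq.1
  obtain ⟨f, hf⟩ := recognise_small (G := Shrink.{0} G) (d := φ d) (fun k => d1 (φ.injective (by rw [k, map_one])))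
    (by rw [← map_mul, d2, map_one]) hK (ψ0.comp τ.toMonoidHom)
    ((e.surjective.comp (QuotientGroup.mk'_surjective _)).comp τ.surjective)
    (fun g => (k0 (τ g)).trans (or_congr
      ⟨fun k => φ.symm.injective (by rw [map_one]; exact k),
        fun k => by show φ.symm (g : Shrink.{0} G) = 1; rw [k, map_one]⟩ φ.symm_apply_eq))
    (by
      refine Subgroup.map_injective (f := τ.toMonoidHom) τ.injective ?_
      rw [commutator_def, Subgroup.map_commutator, Subgroup.map_top_of_surjective _ τ.surjective, ← commutator_def]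
      exact Group.IsPerfect.commutator_eq_top)
    (by
      obtain ⟨g, hg1, hg2⟩ := hnwc
      refine ⟨φ (g * d * g⁻¹), isConj_iff.mpr ⟨φ g, by simp⟩, (mem_cent.mp hg1).map φ.toMonoidHom,
        fun k => hg2 (φ.injective k)⟩)
  exact ⟨f.trans φ.symm, by rw [MulEquiv.trans_apply, hf, φ.symm_apply_apply]⟩

/-- The class is of type M(22). -/
theorem class_type {G : Type u} [Group G] [Finite G] {d : G} (f : presFi22.Grp ≃* G) (hf : f Fi22Class.ta = d) :
    IsThreeTranspositionClass (conjugatesOf d) ∧ IsOfTypeM22 G (conjugatesOf d) := by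
  obtain ⟨⟨⟨ho, h3⟩, -, hgen⟩, -⟩ := Fi22Class.facts.2
  have him : f '' conjugatesOf Fi22Class.ta = conjugatesOf d := by
    ext y
    constructor
    · rintro ⟨x, hx, rfl⟩
      obtain ⟨u, rfl⟩ := isConj_iff.mp hx
      exact isConj_iff.mpr ⟨f u, by rw [map_mul, map_mul, map_inv, hf]⟩
    · intro hy
      obtain ⟨u, rfl⟩ := isConj_iff.mp hy
      exact ⟨f.symm u * Fi22Class.ta * (f.symm u)⁻¹, isConj_iff.mpr ⟨f.symm u, rfl⟩,
        by rw [map_mul, map_mul, map_inv, hf, f.apply_symm_apply]⟩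
  refine ⟨⟨⟨?_, ?_⟩, ⟨d, mem_conjugatesOf_self, rfl⟩, ?_⟩, Exist.type22 f him Exist.type22_pres⟩
  · rw [← him]
    rintro _ ⟨x, hx, rfl⟩
    rw [f.orderOf_eq]
    exact ho x hx
  · rw [← him]
    rintro _ ⟨x, hx, rfl⟩ _ ⟨y, hy, rfl⟩
    rcases h3 x hx y hy with k | k
    exacts [Or.inl (by rw [← map_mul, ← map_pow, k, map_one]), Or.inr (by rw [← map_mul, ← map_pow, k, map_one])]
  · rw [← him]
    have := (f.toMonoidHom.map_closure (conjugatesOf Fi22Class.ta)).symm
    rw [hgen, Subgroup.map_top_of_surjective _ f.surjective] at this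
    exact this

end CfsgFi22Rec
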